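import Groth.Agent.WeilCoh.K923.Cover
import Groth.Agent.CycB.PushLocal

/-!
# Cycles rationally equivalent to zero have class zero
-/

set_option autoImplicit false
set_option linter.unusedSectionVars false

universe u v

open CategoryTheory CategoryTheory.Limits AlgebraicGeometry WeilCoh
open Groth.Agent Groth.Agent.CycB

namespace K923.Final

open K923.Normal K923.Cover

variable {k : Type u} [Field k] [IsAlgClosed k] {K : Type v} [Field K] [CharZero K] (T : Theory k K)

theorem clCyc_eq_cls (X : Var k) (α : AlgebraicCycle X.obj.left ℤ) : T.clCyc X α = cls T X ⇑α := rfl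

/-- **push-forward of the divisor of a function along a birational morphism** -/
theorem cls_push {X' X : Var k} (p : X' ⟶ X) (ξ' : X'.obj.left) (hRS : RS (sm p) ξ')
    (δ' : X'.obj.left → ℤ) (hδ' : Cyc.DeltaCompat X'.obj.hom δ' (fun _ => 0))
    (δ : X.obj.left → ℤ) (hδ : Cyc.DeltaCompat X.obj.hom δ (fun _ => 0))
    (f : X.obj.left.residueField (sm p ξ')) (hf : f ≠ 0)
    (h0 : cls T X' (Cyc.divFun δ' ξ' (((sm p).residueFieldMap ξ').hom f)) = 0) :
    cls T X (Cyc.divFun δ (sm p ξ') f) = 0 := by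
  have hXs := isSetup X δ hδ
  have hXs' := isSetup X' δ' hδ'
  have := hXs.1
  have := hXs'.1
  have hpr : IsProper (sm p) := by
    have h1 : IsProper (sm p ≫ X.obj.hom) := by
      rw [K861.Dim.w]; infer_instance
    exact IsProper.of_comp (sm p) X.obj.hom
  set g := ((sm p).residueFieldMap ξ').hom f with hg
  have hg0 : g ≠ 0 := (map_ne_zero _).mpr hf
  have hdeg : (sm p).residueDegree ξ' = 1 := P1Deg.residueDegree_eq_one_of_surjective (sm p) ξ' hRS
  have heq : δ' ξ' = δ (sm p ξ') := by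
    rw [K861.Cycle.delta_eq_pdim _ δ' hδ', K861.Cycle.delta_eq_pdim _ δ hδ,
      K861.Dim.pdim_of_residueDegree_ne_zero p ξ' (by rw [hdeg]; exact one_ne_zero)]
  have hcomp : Cyc.DeltaCompat (sm p) δ' δ := by
    obtain ⟨δ'', h''⟩ := SetupLft.exists_deltaCompat (sm p) δ
    have h1 : Cyc.DeltaCompat (sm p ≫ X.obj.hom) δ'' (fun _ => 0) := RelDim.deltaCompat_comp h'' hδ
    rw [K861.Dim.w] at h1
    have h2 : δ'' = δ' := by
      funext x
      rw [K861.Cycle.delta_eq_pdim _ δ' hδ', K861.Cycle.delta_eq_pdim _ δ'' h1]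
    rwa [h2] at h''
  obtain ⟨α, hα⟩ := DivFun.exists_cycle_divFun hXs'.2.2 ξ' g
  have hmap : ⇑(AlgebraicCycle.map (sm p) δ' δ α) = Cyc.divFun δ (sm p ξ') f := by
    funext y
    rw [Push.map_apply, hα, PushLocal.finsum_divFun_of_eq hXs'.2.2 hXs.2.2 (sm p) hcomp ξ' g hg0 heq y,
      CurveDeg.normGen_of_bijective (sm p) ξ' hRS]
  have h1 : T.clCyc X (AlgebraicCycle.map (sm p) δ' δ α) = 0 := by
    apply K861.Basic.eq_zero_of_tr T
    intro b
    rw [K861.Cycle.tr_clCyc_map T p δ' hδ' δ hδ α b, clCyc_eq_cls, hα, h0, zero_mul, map_zero]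
  rw [clCyc_eq_cls, hmap] at h1
  exact h1

/-- **the class of the divisor of a function vanishes** -/
theorem cls_divFun (X : Var k) (δ : ↥X.obj.left → ℤ) (hδ : Cyc.DeltaCompat X.obj.hom δ (fun _ => 0))
    (ξ : X.obj.left) (f : X.obj.left.residueField ξ) (hf : f ≠ 0) :
    cls T X (Cyc.divFun δ ξ f) = 0 := by
  obtain ⟨X', p, ξ', rfl, hRS, hn⟩ := exists_cover X ξ
  obtain ⟨δ', hδ'⟩ := SetupLft.exists_deltaCompat X'.obj.hom (fun _ => (0 : ℤ))
  exact cls_push T p ξ' hRS δ' hδ' δ hδ f hf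
    (Normal.cls_divFun T X' δ' hδ' ξ' (hn δ' hδ') _ ((map_ne_zero _).mpr hf))

/-- **cycles rationally equivalent to zero have class zero** -/
theorem clCyc_eq_zero (X : Var k)
    (δ : ↥X.obj.left → ℤ) (hδ : Cyc.DeltaCompat X.obj.hom δ (fun _ => 0)) (r : ℤ)
    (α : AlgebraicCycle X.obj.left ℤ) (hα : Cyc.RatEquivZero δ r α) :
    T.clCyc X α = 0 := by
  classical
  have hXs := isSetup X δ hδ
  have := hXs.1
  obtain ⟨ι, ξ, f, -, hf, hfin, hα⟩ := hα
  have hι : Finite ι := by
    choose U hU hxU hfin using hfin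
    obtain ⟨t, ht⟩ := isCompact_univ.elim_finite_subcover U hU (fun x _ => Set.mem_iUnion.mpr ⟨x, hxU x⟩)
    have h1 : (Set.univ : Set ι).Finite := by
      refine (t.finite_toSet.biUnion (t := fun x => {i | (closure {ξ i} ∩ U x).Nonempty})
        fun x _ => hfin x).subset ?_
      intro i _
      obtain ⟨x, hx, hix⟩ := Set.mem_iUnion₂.mp (ht (Set.mem_univ (ξ i)))
      exact Set.mem_iUnion₂.mpr ⟨x, hx, ξ i, subset_closure rfl, hix⟩
    exact Set.finite_univ_iff.mp h1
  have := Fintype.ofFinite ι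
  have hα' : ⇑α = ∑ i, Cyc.divFun δ (ξ i) (f i) := by
    funext x
    rw [hα, finsum_eq_sum_of_fintype, Finset.sum_apply]
  rw [clCyc_eq_cls, hα']
  have key : ∀ s : Finset ι, cls T X (∑ i ∈ s, Cyc.divFun δ (ξ i) (f i)) = 0 ∧
      (Function.support (∑ i ∈ s, Cyc.divFun δ (ξ i) (f i))).Finite := by
    intro s
    induction s using Finset.induction_on with
    | empty =>
      rw [Finset.sum_empty]
      exact ⟨cls_zero T X, by rw [Function.support_zero]; exact Set.finite_empty⟩
    | insert a s ha ih =>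
      rw [Finset.sum_insert ha]
      have h1 := finite_support_divFun hXs.2.2 (ξ a) (f a)
      refine ⟨?_, ?_⟩
      · rw [cls_add T X _ _ h1 ih.2, ih.1, cls_divFun T X δ hδ (ξ a) (f a) (hf a), add_zero]
      · exact (h1.union ih.2).subset (Function.support_add _ _)
  exact (key Finset.univ).1

end K923.Final
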