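import Groth.Agent.WeilCoh.K923.Normal
import Groth.Agent.CycB.PushFinite
import Groth.Agent.CycB.PtClosure
import Groth.Agent.CycB.CurveDeg
import Groth.Agent.S1585
import Groth.Agent.S4452
import Groth.Agent.S4420
import Groth.Agent.Dix.CastAmple

/-!
# The normalization of a subvariety in a projective space over the variety
-/

set_option autoImplicit false
set_option linter.unusedSectionVars false

universe u v

open CategoryTheory CategoryTheory.Limits AlgebraicGeometry WeilCoh
open Groth.Agent Groth.Agent.CycB Groth.Agent.CycB.PtClosure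

namespace K923.Cover

/-- surjectivity on residue fields -/
def RS {X Y : Scheme.{u}} (f : X ⟶ Y) (x : X) : Prop := Function.Surjective (f.residueFieldMap x).hom

theorem RS.congr {X Y : Scheme.{u}} {f g : X ⟶ Y} (h : f = g) {x : X} (hf : RS f x) : RS g x := by
  subst h; exact hf

theorem residueFieldMap_comp_apply {X Y Z : Scheme.{u}} (f : X ⟶ Y) (g : Y ⟶ Z) (x : X)
    (a : Z.residueField (g (f x))) : ((f ≫ g).residueFieldMap x).hom a =
      (f.residueFieldMap x).hom ((g.residueFieldMap (f x)).hom a) :=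
  congrArg (fun t => t.hom a) (Scheme.residueFieldMap_comp f g x)

theorem RS.comp {X Y Z : Scheme.{u}} {f : X ⟶ Y} {g : Y ⟶ Z} {x : X} (hf : RS f x) (hg : RS g (f x)) :
    RS (f ≫ g) x := by
  intro y
  obtain ⟨b, hb⟩ := hf y
  obtain ⟨a, ha⟩ := hg b
  exact ⟨a, by rw [residueFieldMap_comp_apply, ha, hb]⟩

theorem RS.of_comp {X Y Z : Scheme.{u}} {f : X ⟶ Y} {g : Y ⟶ Z} {x : X} (h : RS (f ≫ g) x) :
    RS g (f x) := by
  intro y
  obtain ⟨z, hz⟩ := h ((f.residueFieldMap x).hom y)
  rw [residueFieldMap_comp_apply] at hz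
  exact ⟨z, (f.residueFieldMap x).hom.injective hz⟩

theorem RS.of_surjectiveOnStalks {X Y : Scheme.{u}} (f : X ⟶ Y) [SurjectiveOnStalks f] (x : X) : RS f x :=
  (DivNat.residueFieldMap_bijective f x).2

/-- a morphism which is an isomorphism over a nonempty open is birational -/
theorem RS.of_isIso_restrict {X Y : Scheme.{u}} (f : X ⟶ Y) (V : Y.Opens) (hV : IsIso (f ∣_ V)) {x : X}
    (hx : f x ∈ V) : RS f x := by
  let z : (f ⁻¹ᵁ V : X.Opens) := ⟨x, hx⟩
  have h1 : RS ((f ∣_ V) ≫ V.ι) z := RS.comp (RS.of_surjectiveOnStalks _ _) (RS.of_surjectiveOnStalks _ _)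
  have h2 : RS ((f ⁻¹ᵁ V).ι ≫ f) z := h1.congr (morphismRestrict_ι f V)
  exact h2.of_comp

/-- a one-dimensional normal Noetherian local domain is a discrete valuation ring -/
theorem isDVR_locQuot {X : Scheme.{u}} [IsLocallyNoetherian X] {δ : X → ℤ} (hδ : Cyc.IsDimFun X δ)
    {x ξ : X} (h : ξ ⤳ x) (hd : δ x + 1 = δ ξ) (hn : IsIntegrallyClosed (Cyc.LocQuot x ξ h)) :
    IsDiscreteValuationRing (Cyc.LocQuot x ξ h) := by
  have h1 : Ring.KrullDimLE 1 (Cyc.LocQuot x ξ h) := LocQuot.krullDimLE_one_locQuot hδ h hd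
  have hnf : ¬ IsField (Cyc.LocQuot x ξ h) := by
    intro hf
    have h2 : (RingHom.ker (Cyc.specMap x ξ h)).IsMaximal := Ideal.Quotient.maximal_of_isField _ hf
    have h3 : RingHom.ker (Cyc.specMap x ξ h) = IsLocalRing.maximalIdeal _ :=
      IsLocalRing.eq_maximalIdeal h2
    rw [← LocQuot.ker_refl, LocQuot.ker_inj] at h3
    rw [h3] at hd
    omega
  have h4 : Ring.DimensionLEOne (Cyc.LocQuot x ξ h) :=
    ⟨fun {P} hP hP' => Ideal.IsPrime.isMaximal_of_ne_bot hP' hP⟩
  have h5 : IsDedekindDomain (Cyc.LocQuot x ξ h) := {}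
  exact ((IsDiscreteValuationRing.TFAE (Cyc.LocQuot x ξ h) hnf).out 0 2).mpr h5

variable {k : Type u} [Field k]

/-- the normalization of the closure of a point -/
theorem exists_normalization {X : Scheme.{u}} (p : X ⟶ Spec (CommRingCat.of k)) [LocallyOfFiniteType p]
    [IsLocallyNoetherian X] (ξ : X) :
    ∃ (Y : Scheme.{u}) (_ : IsIntegral Y) (q : Y ⟶ X) (_ : IsFinite q),
      q (genericPoint Y) = ξ ∧ RS q (genericPoint Y) ∧ ∀ y : Y, IsIntegrallyClosed (Y.presheaf.stalk y) := by
  let _ : (ptCl ξ).Over (Spec (CommRingCat.of k)) := ⟨ptClι ξ ≫ p⟩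
  have h1 : LocallyOfFiniteType ((ptCl ξ) ↘ Spec (CommRingCat.of k)) :=
    inferInstanceAs (LocallyOfFiniteType (ptClι ξ ≫ p))
  have h2 : QuasiCompact ((ptCl ξ).fromSpecStalk (genericPoint (ptCl ξ))) := inferInstance
  have h3 : QuasiSeparated ((ptCl ξ).fromSpecStalk (genericPoint (ptCl ξ))) := inferInstance
  obtain ⟨hfin, hdom, ⟨V, hV, hiso⟩, hint, hnorm⟩ := S1585.result k (ptCl ξ)
  have hgen : Curv2.normalizationι (ptCl ξ) (genericPoint (Curv2.normalization (ptCl ξ))) =
      genericPoint (ptCl ξ) := by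
    have h4 : IsGenericPoint (Curv2.normalizationι (ptCl ξ) (genericPoint (Curv2.normalization (ptCl ξ))))
        (closure (Curv2.normalizationι (ptCl ξ) '' Set.univ)) :=
      (genericPoint_spec _).image (Curv2.normalizationι (ptCl ξ)).continuous
    have h5 : closure (Curv2.normalizationι (ptCl ξ) '' Set.univ) = Set.univ := by
      rw [Set.image_univ]
      exact (Curv2.normalizationι (ptCl ξ)).denseRange.closure_range
    rw [h5] at h4
    exact h4.eq (genericPoint_spec _)
  refine ⟨Curv2.normalization (ptCl ξ), hint, Curv2.normalizationι (ptCl ξ) ≫ ptClι ξ, inferInstance,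
    ?_, ?_, fun y => (hnorm y).2⟩
  · rw [Scheme.Hom.comp_apply, hgen, ptClι_genericPoint]
  · refine RS.comp (RS.of_isIso_restrict _ V hiso ?_) (RS.of_surjectiveOnStalks _ _)
    rw [hgen]
    obtain ⟨v, hv⟩ := hV
    exact (genericPoint_specializes v).mem_open V.2 hv

/-- **the normalization of the closure of a point as a subvariety of a projective space over `X`** -/
theorem exists_cover [IsAlgClosed k] (X : Var k) (ξ : X.obj.left) :
    ∃ (X' : Var k) (p : X' ⟶ X) (ξ' : X'.obj.left), sm p ξ' = ξ ∧ RS (sm p) ξ' ∧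
      ∀ δ' : X'.obj.left → ℤ, Cyc.DeltaCompat X'.obj.hom δ' (fun _ => 0) → GeoFam.NormalAt δ' ξ' := by
  obtain ⟨δ, hδ⟩ := SetupLft.exists_deltaCompat X.obj.hom (fun _ => (0 : ℤ))
  have hXs := Normal.isSetup X δ hδ
  have := hXs.1
  obtain ⟨Y, hY, q, hq, hqξ, hRS, hnorm⟩ := exists_normalization X.obj.hom ξ
  have hsep : X.obj.left.IsSeparated := ⟨by
    rw [← Limits.terminal.comp_from X.obj.hom]
    infer_instance⟩
  have hample := (Dix.CastAmple.exists_ample X.obj X.property.2.1).2
  obtain ⟨n, i, hi, hiq⟩ := (S4420.result hample q).mp (S4452.result q)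
  refine ⟨PX.P n X, PX.toX n X, i (genericPoint Y), ?_, ?_, ?_⟩
  · change (CohB1.ProjSpaceOver.toBase n X.obj.left) (i (genericPoint Y)) = ξ
    rw [← Scheme.Hom.comp_apply, hiq, hqξ]
  · have h1 : RS (i ≫ CohB1.ProjSpaceOver.toBase n X.obj.left) (genericPoint Y) := hRS.congr hiq.symm
    exact h1.of_comp
  · intro δ' hδ'
    have hPs := Normal.isSetup (PX.P n X) δ' hδ'
    have := hPs.1
    intro x h hd
    obtain ⟨y, rfl⟩ := h.mem_closed i.isClosedEmbedding.isClosed_range ⟨_, rfl⟩
    refine isDVR_locQuot hPs.2.2 h hd ?_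
    have := hnorm y
    let e : Cyc.LocQuot (i y) (i (genericPoint Y)) h ≃+* Y.presheaf.stalk y :=
      (DivNat.locQuotEquiv i y (genericPoint Y) (genericPoint_specializes y)).trans
        (PushFinite.stalkEquivLocQuot rfl (genericPoint_specializes y)).symm
    exact IsIntegrallyClosed.of_equiv e.symm

end K923.Cover
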