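import Groth.Agent.WeilCoh.K923.Simple
import Groth.Agent.Pi1.H389.DvrOrd
import Groth.Agent.CycB.LocQuot
import Groth.Agent.CycB.OrdFrac
import Groth.Agent.CycB.DivFun
import Groth.Agent.CycB.GraphMult

/-!
# The discrete valuations of a normal variety
-/

set_option autoImplicit false
set_option linter.unusedSectionVars false

universe u v

open CategoryTheory CategoryTheory.Limits AlgebraicGeometry
open Groth.Agent Groth.Agent.CycB Groth.Agent.Pi1.H389.DvrOrd PrimeSpectrum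

namespace K923.GeoFam

section DVR

variable {R : Type u} [CommRing R] [IsDomain R] [IsDiscreteValuationRing R]
  {K : Type u} [Field K] [Algebra R K] [IsFractionRing R K]

theorem ord_add {a b : K} (ha : a ≠ 0) (hb : b ≠ 0) (hab : a + b ≠ 0) :
    min (CycAlg.ordFrac R K a) (CycAlg.ordFrac R K b) ≤ CycAlg.ordFrac R K (a + b) := by
  obtain ⟨π, hπ⟩ := IsDiscreteValuationRing.exists_irreducible R
  have hne : algebraMap R K π ≠ 0 := by
    rw [ne_eq, IsFractionRing.to_map_eq_zero_iff]; exact hπ.ne_zero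
  set m := min (CycAlg.ordFrac R K a) (CycAlg.ordFrac R K b) with hm
  set t := algebraMap R K π ^ m with ht
  have ht0 : t ≠ 0 := zpow_ne_zero _ hne
  have hwt : CycAlg.ordFrac R K t = m := ord_zpow hπ m
  obtain ⟨r, hr⟩ := mem_of_ord_nonneg (R := R) (g := a / t)
    (Or.inr (by rw [OrdFrac.ordFrac_div R K ha ht0, hwt]; omega))
  obtain ⟨s, hs⟩ := mem_of_ord_nonneg (R := R) (g := b / t)
    (Or.inr (by rw [OrdFrac.ordFrac_div R K hb ht0, hwt]; omega))
  have h1 : algebraMap R K (r + s) = (a + b) / t := by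
    rw [map_add, hr, hs, add_div]
  have h2 := ord_nonneg (K := K) (r + s)
  rw [h1, OrdFrac.ordFrac_div R K hab ht0, hwt] at h2
  omega

end DVR

variable {X : Scheme.{u}}

/-- the closure of `ξ` is regular in codimension one -/
def NormalAt (δ : X → ℤ) (ξ : X) : Prop :=
  ∀ (x : X) (h : ξ ⤳ x), δ x + 1 = δ ξ → IsDiscreteValuationRing (Cyc.LocQuot x ξ h)

/-- the prime divisors of the closure of `ξ` -/
abbrev Idx (δ : X → ℤ) (ξ : X) : Type u := {x : X // ξ ⤳ x ∧ δ x + 1 = δ ξ}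

/-- their valuations -/
noncomputable def w (δ : X → ℤ) (ξ : X) (i : Idx δ ξ) (f : X.residueField ξ) : ℤ :=
  Cyc.ordAt i.1 ξ i.2.1 f

theorem w_eq (δ : X → ℤ) (ξ : X) (i : Idx δ ξ) (f : X.residueField ξ) :
    w δ ξ i f = Cyc.divFun δ ξ f i.1 := (OrdFrac.divFun_apply δ i.2.1 i.2.2 f).symm

variable {k : Type u} [Field k] (p : X ⟶ Spec (CommRingCat.of k))

/-- the constants in a local ring -/
noncomputable def kx (x : X) : k →+* X.presheaf.stalk x :=
  ((Scheme.ΓSpecIso (CommRingCat.of k)).inv ≫ p.appTop ≫ X.presheaf.germ ⊤ x trivial).hom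

/-- the constants in a residue field -/
noncomputable def kξ (ξ : X) : k →+* X.residueField ξ :=
  ((Scheme.ΓSpecIso (CommRingCat.of k)).inv ≫ p.appTop ≫ X.presheaf.germ ⊤ ξ trivial ≫ X.residue ξ).hom

theorem specMap_kx {x ξ : X} (h : ξ ⤳ x) (c : k) : Cyc.specMap x ξ h (kx p x c) = kξ p ξ c := by
  unfold Cyc.specMap kx kξ
  rw [← RingHom.comp_apply, ← CommRingCat.hom_comp]
  congr 2
  simp only [Category.assoc, TopCat.Presheaf.germ_stalkSpecializes_assoc]

theorem specMap_germ {x ξ : X} (h : ξ ⤳ x) (U : X.Opens) (hx : x ∈ U) (hξ : ξ ∈ U) (a : Γ(X, U)) :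
    Cyc.specMap x ξ h (X.presheaf.germ U x hx a) = X.evaluation U ξ hξ a := by
  unfold Cyc.specMap
  rw [← CommRingCat.comp_apply]
  have : X.presheaf.germ U x hx ≫ X.presheaf.stalkSpecializes h ≫ X.residue ξ =
      X.evaluation U ξ hξ := by
    rw [TopCat.Presheaf.germ_stalkSpecializes_assoc]
    rfl
  exact congrArg (fun t => t.hom a) this

theorem evaluation_appLE {ξ : X} (U : X.Opens) (hξ : ξ ∈ U)
    (r : Γ(Spec (CommRingCat.of k), ⊤)) :
    X.evaluation U ξ hξ (p.appLE ⊤ U le_top r) =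
      kξ p ξ ((Scheme.ΓSpecIso (CommRingCat.of k)).hom r) := by
  unfold kξ
  rw [← CommRingCat.comp_apply, ← CommRingCat.comp_apply]
  have : p.appLE ⊤ U le_top ≫ X.evaluation U ξ hξ =
      (Scheme.ΓSpecIso (CommRingCat.of k)).hom ≫ (Scheme.ΓSpecIso (CommRingCat.of k)).inv ≫
        p.appTop ≫ X.presheaf.germ ⊤ ξ trivial ≫ X.residue ξ := by
    rw [Iso.hom_inv_id_assoc, Scheme.Hom.appLE, Category.assoc]
    congr 1
    change X.presheaf.map _ ≫ X.presheaf.germ U ξ hξ ≫ X.residue ξ = _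
    rw [TopCat.Presheaf.germ_res_assoc]
    rfl
  exact congrArg (fun t => t.hom r) this

/-! ### the local ring at a prime divisor -/

section

variable (δ : X → ℤ) (ξ : X)

theorem mem_range_of_nonneg (hn : NormalAt δ ξ) (i : Idx δ ξ) {f : X.residueField ξ}
    (hf : f = 0 ∨ 0 ≤ w δ ξ i f) : f ∈ (Cyc.specMap i.1 ξ i.2.1).range := by
  have := hn i.1 i.2.1 i.2.2
  obtain ⟨r, hr⟩ := mem_of_ord_nonneg (R := Cyc.LocQuot i.1 ξ i.2.1) hf
  obtain ⟨a, rfl⟩ := Ideal.Quotient.mk_surjective r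
  exact ⟨a, hr⟩

theorem nonneg_of_mem_range (hn : NormalAt δ ξ) (i : Idx δ ξ) {f : X.residueField ξ}
    (hf : f ∈ (Cyc.specMap i.1 ξ i.2.1).range) : 0 ≤ w δ ξ i f := by
  have := hn i.1 i.2.1 i.2.2
  obtain ⟨a, rfl⟩ := hf
  exact ord_nonneg (R := Cyc.LocQuot i.1 ξ i.2.1) (K := X.residueField ξ) (Ideal.Quotient.mk _ a)

theorem w_specMap_unit (i : Idx δ ξ) {a : X.presheaf.stalk i.1} (ha : IsUnit a) :
    w δ ξ i (Cyc.specMap i.1 ξ i.2.1 a) = 0 :=
  OrdFrac.ordFrac_of_isUnit (Cyc.LocQuot i.1 ξ i.2.1) (X.residueField ξ)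
    (a := Ideal.Quotient.mk _ a) (ha.map _)

/-- finitely many zeros and poles -/
theorem fin_w [IsLocallyNoetherian X] [CompactSpace X] (hδ : Cyc.IsDimFun X δ) (f : X.residueField ξ) :
    {i : Idx δ ξ | w δ ξ i f ≠ 0}.Finite := by
  have h1 : (Function.support (Cyc.divFun δ ξ f)).Finite := by
    choose U hU hxU hfin using DivFun.locallyFinite_divFun hδ ξ f
    obtain ⟨t, ht⟩ := isCompact_univ.elim_finite_subcover U hU (fun x _ => Set.mem_iUnion.mpr ⟨x, hxU x⟩)
    refine (t.finite_toSet.biUnion (t := fun x => U x ∩ Function.support (Cyc.divFun δ ξ f))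
      fun x _ => hfin x).subset ?_
    intro y hy
    obtain ⟨x, hx, hyx⟩ := Set.mem_iUnion₂.mp (ht (Set.mem_univ y))
    exact Set.mem_iUnion₂.mpr ⟨x, hx, hyx, hy⟩
  refine Set.Finite.of_finite_image (f := Subtype.val) (h1.subset ?_) Subtype.val_injective.injOn
  rintro _ ⟨i, hi, rfl⟩
  rw [Function.mem_support, ← w_eq]
  exact hi

/-- separatedness -/
theorem sep_w [IsSeparated p] (hδ : Cyc.IsDimFun X δ) (hn : NormalAt δ ξ) (i j : Idx δ ξ) (hij : i ≠ j) :
    ∃ a : X.residueField ξ, a ≠ 0 ∧ 0 ≤ w δ ξ i a ∧ w δ ξ j a < 0 := by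
  by_contra hcon
  push Not at hcon
  have hle : (Cyc.specMap i.1 ξ i.2.1).range ≤ (Cyc.specMap j.1 ξ j.2.1).range := by
    intro a ha
    by_cases ha0 : a = 0
    · rw [ha0]; exact zero_mem _
    · exact mem_range_of_nonneg δ ξ hn j (Or.inr (hcon a ha0 (nonneg_of_mem_range δ ξ hn i ha)))
  -- the morphisms
  let Ri : CommRingCat.{u} := CommRingCat.of (Cyc.specMap i.1 ξ i.2.1).range
  let Rj : CommRingCat.{u} := CommRingCat.of (Cyc.specMap j.1 ξ j.2.1).range
  let ai : X.presheaf.stalk i.1 ⟶ Ri := CommRingCat.ofHom (Cyc.specMap i.1 ξ i.2.1).rangeRestrict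
  let aj : X.presheaf.stalk j.1 ⟶ Rj := CommRingCat.ofHom (Cyc.specMap j.1 ξ j.2.1).rangeRestrict
  let ci : Ri ⟶ X.residueField ξ := CommRingCat.ofHom (Cyc.specMap i.1 ξ i.2.1).range.subtype
  let cj : Rj ⟶ X.residueField ξ := CommRingCat.ofHom (Cyc.specMap j.1 ξ j.2.1).range.subtype
  let e : Ri ⟶ Rj := CommRingCat.ofHom (Subring.inclusion hle)
  have hec : e ≫ cj = ci := rfl
  have hai : ai ≫ ci = CommRingCat.ofHom (Cyc.specMap i.1 ξ i.2.1) := rfl
  have haj : aj ≫ cj = CommRingCat.ofHom (Cyc.specMap j.1 ξ j.2.1) := rfl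
  have hres : ∀ l : Idx δ ξ, Spec.map (CommRingCat.ofHom (Cyc.specMap l.1 ξ l.2.1)) ≫ X.fromSpecStalk l.1 =
      X.fromSpecResidueField ξ := fun l => (GraphMult.fromSpecResidueField_eq l.2.1).symm
  have hdom : IsDominant (Spec.map cj) := by
    refine ⟨(denseRange_comap_iff_ker_le_nilRadical cj.hom).mpr ?_⟩
    intro a ha
    have : a = 0 := Subtype.val_injective ha
    rw [this]
    exact zero_mem _
  have hred : IsReduced (Spec Rj) := inferInstance
  have hgen : Spec.map cj ≫ Spec.map aj ≫ X.fromSpecStalk j.1 =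
      Spec.map cj ≫ Spec.map e ≫ Spec.map ai ≫ X.fromSpecStalk i.1 := by
    have h1 : Spec.map cj ≫ Spec.map aj ≫ X.fromSpecStalk j.1 = X.fromSpecResidueField ξ := by
      rw [← Category.assoc, ← Spec.map_comp, haj, hres j]
    have h2 : Spec.map cj ≫ Spec.map e ≫ Spec.map ai ≫ X.fromSpecStalk i.1 =
        X.fromSpecResidueField ξ := by
      rw [← Category.assoc, ← Spec.map_comp, hec, ← Category.assoc, ← Spec.map_comp, hai, hres i]
    rw [h1, h2]
  have hmor : Spec.map aj ≫ X.fromSpecStalk j.1 = Spec.map e ≫ Spec.map ai ≫ X.fromSpecStalk i.1 := by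
    refine ext_of_isDominant_of_isSeparated p ?_ (Spec.map cj) hgen
    refine ext_of_isDominant (Spec.map cj) ?_
    rw [← Category.assoc, hgen, Category.assoc]
  have haj_surj : Function.Surjective aj.hom := (Cyc.specMap j.1 ξ j.2.1).rangeRestrict_surjective
  obtain ⟨z, hz⟩ : ∃ z : Spec Rj, Spec.map aj z = IsLocalRing.closedPoint (X.presheaf.stalk j.1) := by
    have h1 := range_comap_of_surjective _ aj.hom haj_surj
    have h2 : IsLocalRing.closedPoint (X.presheaf.stalk j.1) ∈ Set.range (PrimeSpectrum.comap aj.hom) := by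
      rw [h1, PrimeSpectrum.mem_zeroLocus]
      exact IsLocalRing.le_maximalIdeal (RingHom.ker_ne_top _)
    exact h2
  have h3 : (Spec.map aj ≫ X.fromSpecStalk j.1) z = j.1 := by
    rw [Scheme.Hom.comp_apply, hz, Scheme.fromSpecStalk_closedPoint]
  have h4 : (Spec.map aj ≫ X.fromSpecStalk j.1) z ⤳ i.1 := by
    rw [hmor, ← Category.assoc, Scheme.Hom.comp_apply]
    exact LocQuot.fromSpecStalk_specializes _
  rw [h3] at h4
  have h5 := LocQuot.eq_of_specializes_of_eq hδ h4 (by have := i.2.2; have := j.2.2; omega)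
  exact hij (Subtype.ext h5.symm)

/-- derivations preserve almost all local rings -/
theorem der_w [LocallyOfFiniteType p] [IsLocallyNoetherian X] [CompactSpace X]
    (hδ : Cyc.IsDimFun X δ) (hn : NormalAt δ ξ) :
    letI := (kξ p ξ).toAlgebra
    ∀ D : Derivation k (X.residueField ξ) (X.residueField ξ),
      {i : Idx δ ξ | ∃ a, a ≠ 0 ∧ 0 ≤ w δ ξ i a ∧ D a ≠ 0 ∧ w δ ξ i (D a) < 0}.Finite := by
  let _ := (kξ p ξ).toAlgebra
  intro D
  -- on an affine open
  have key : ∀ U : X.Opens, IsAffineOpen U →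
      {i : Idx δ ξ | i.1 ∈ U ∧ ∃ a, a ≠ 0 ∧ 0 ≤ w δ ξ i a ∧ D a ≠ 0 ∧ w δ ξ i (D a) < 0}.Finite := by
    intro U hU
    by_cases hξ : ξ ∈ U
    swap
    · refine Set.finite_empty.subset ?_
      rintro i ⟨hi, -⟩
      exact hξ (i.2.1.mem_open U.2 hi)
    have hft := p.finiteType_appLE (isAffineOpen_top (Spec (CommRingCat.of k))) hU le_top
    let _ : Algebra Γ(Spec (CommRingCat.of k), ⊤) Γ(X, U) := (p.appLE ⊤ U le_top).hom.toAlgebra
    obtain ⟨S, hS⟩ := (show Algebra.FiniteType Γ(Spec (CommRingCat.of k), ⊤) Γ(X, U) from hft).out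
    refine (S.finite_toSet.biUnion (t := fun s => {i : Idx δ ξ | w δ ξ i (D (X.evaluation U ξ hξ s)) ≠ 0})
      fun s _ => fin_w δ ξ hδ _).subset ?_
    rintro i ⟨hiU, a, ha0, ha, hDa, hDa'⟩
    by_contra hcon
    have hSi : ∀ s ∈ S, w δ ξ i (D (X.evaluation U ξ hξ s)) = 0 := by
      intro s hs
      by_contra h'
      exact hcon (Set.mem_iUnion₂.mpr ⟨s, hs, h'⟩)
    set O := (Cyc.specMap i.1 ξ i.2.1).range with hO
    have hev : ∀ b : Γ(X, U), X.evaluation U ξ hξ b ∈ O := fun b =>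
      ⟨_, specMap_germ i.2.1 U hiU hξ b⟩
    have hDev : ∀ b : Γ(X, U), D (X.evaluation U ξ hξ b) ∈ O := by
      intro b
      have hb : b ∈ Algebra.adjoin Γ(Spec (CommRingCat.of k), ⊤) (S : Set Γ(X, U)) := by
        rw [hS]; trivial
      induction hb using Algebra.adjoin_induction with
      | mem s hs => exact mem_range_of_nonneg δ ξ hn i (Or.inr (hSi s hs).ge)
      | algebraMap r =>
        have h1 : X.evaluation U ξ hξ (algebraMap Γ(Spec (CommRingCat.of k), ⊤) Γ(X, U) r) =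
            algebraMap k (X.residueField ξ) ((Scheme.ΓSpecIso (CommRingCat.of k)).hom r) :=
          evaluation_appLE p U hξ r
        rw [h1, D.map_algebraMap]
        exact zero_mem _
      | add x y _ _ hx hy => rw [map_add, map_add]; exact add_mem hx hy
      | mul x y _ _ hx hy =>
        rw [map_mul, D.leibniz, smul_eq_mul, smul_eq_mul]
        exact add_mem (mul_mem (hev x) hy) (mul_mem (hev y) hx)
    have hDO : ∀ f ∈ O, D f ∈ O := by
      rintro _ ⟨s, rfl⟩
      let _ := X.presheaf.algebra_section_stalk ⟨i.1, hiU⟩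
      have hloc := hU.isLocalization_stalk ⟨i.1, hiU⟩
      obtain ⟨⟨a, b⟩, hab⟩ := IsLocalization.surj (M := (hU.primeIdealOf ⟨i.1, hiU⟩).asIdeal.primeCompl)
        (S := X.presheaf.stalk i.1) s
      have hbu : IsUnit (X.presheaf.germ U i.1 hiU (b : Γ(X, U))) :=
        IsLocalization.map_units (X.presheaf.stalk i.1) b
      obtain ⟨c, hc⟩ := hbu.exists_right_inv
      have hab' : s * X.presheaf.germ U i.1 hiU (b : Γ(X, U)) = X.presheaf.germ U i.1 hiU a := hab
      set φ := Cyc.specMap i.1 ξ i.2.1 with hφ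
      have e1 : φ s * X.evaluation U ξ hξ b = X.evaluation U ξ hξ a := by
        rw [← specMap_germ i.2.1 U hiU hξ, ← specMap_germ i.2.1 U hiU hξ, ← map_mul, hab']
      have e2 : X.evaluation U ξ hξ b * φ c = 1 := by
        rw [← specMap_germ i.2.1 U hiU hξ, ← map_mul, hc, map_one]
      have e3 : φ s * D (X.evaluation U ξ hξ b) + X.evaluation U ξ hξ b * D (φ s) =
          D (X.evaluation U ξ hξ a) := by
        rw [← e1, D.leibniz, smul_eq_mul, smul_eq_mul]
      have e4 : D (φ s) = φ c * (D (X.evaluation U ξ hξ a) - φ s * D (X.evaluation U ξ hξ b)) := by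
        have : φ c * (X.evaluation U ξ hξ b * D (φ s)) = D (φ s) := by
          rw [← mul_assoc, mul_comm (φ c), e2, one_mul]
        rw [← e3, add_sub_cancel_left, this]
      rw [e4]
      exact mul_mem ⟨c, rfl⟩ (sub_mem (hDev a) (mul_mem ⟨s, rfl⟩ (hDev b)))
    have h1 := nonneg_of_mem_range δ ξ hn i (hDO a (mem_range_of_nonneg δ ξ hn i (Or.inr ha)))
    omega
  -- cover
  choose U hU hxU _ using fun x : X => exists_isAffineOpen_mem_and_subset (X := X) (x := x) (U := ⊤) trivial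
  obtain ⟨t, ht⟩ := isCompact_univ.elim_finite_subcover (fun x => (U x : Set X)) (fun x => (U x).2)
    (fun x _ => Set.mem_iUnion.mpr ⟨x, hxU x⟩)
  refine (t.finite_toSet.biUnion (t := fun x => {i : Idx δ ξ | i.1 ∈ U x ∧
    ∃ a, a ≠ 0 ∧ 0 ≤ w δ ξ i a ∧ D a ≠ 0 ∧ w δ ξ i (D a) < 0}) fun x _ => key (U x) (hU x)).subset ?_
  intro i hi
  obtain ⟨x, hx, hix⟩ := Set.mem_iUnion₂.mp (ht (Set.mem_univ i.1))
  exact Set.mem_iUnion₂.mpr ⟨x, hx, hix, hi⟩

/-- **the prime divisors of a normal variety** -/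
theorem isFam [LocallyOfFiniteType p] [IsSeparated p] [CompactSpace X] [IsLocallyNoetherian X]
    (hδ : Cyc.IsDimFun X δ) (hn : NormalAt δ ξ) :
    letI := (kξ p ξ).toAlgebra
    Simple.Fam k (X.residueField ξ) (w δ ξ) := by
  let _ := (kξ p ξ).toAlgebra
  exact
  { mul := fun i a b ha hb => OrdFrac.ordAt_mul i.2.1 ha hb
    add := fun i a b ha hb hab => by
      have := hn i.1 i.2.1 i.2.2
      exact ord_add (R := Cyc.LocQuot i.1 ξ i.2.1) ha hb hab
    const := fun i c hc => by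
      have h1 : algebraMap k (X.residueField ξ) c = Cyc.specMap i.1 ξ i.2.1 (kx p i.1 c) :=
        (specMap_kx p i.2.1 c).symm
      rw [h1]
      exact w_specMap_unit δ ξ i ((isUnit_iff_ne_zero.mpr hc).map (kx p i.1))
    unif := fun i => by
      have := hn i.1 i.2.1 i.2.2
      obtain ⟨π, hπ⟩ := IsDiscreteValuationRing.exists_irreducible (Cyc.LocQuot i.1 ξ i.2.1)
      refine ⟨algebraMap (Cyc.LocQuot i.1 ξ i.2.1) (X.residueField ξ) π, ?_, ord_irreducible hπ⟩
      rw [ne_eq, IsFractionRing.to_map_eq_zero_iff]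
      exact hπ.ne_zero
    fin := fun a _ => fin_w δ ξ hδ a
    der := der_w p δ ξ hδ hn
    sep := sep_w p δ ξ hδ hn }

end

end K923.GeoFam
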