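import Groth.Agent.WeilCoh.K923.Sect

/-!
# Multiplicities of the graph of a function with simple zeros and poles along the sections
-/

set_option autoImplicit false
set_option linter.unusedSectionVars false

universe u v

open CategoryTheory CategoryTheory.Limits AlgebraicGeometry WeilCoh
open Groth.Agent Groth.Agent.CycB Groth.Agent.CycB.P1PtClosure Groth.Agent.CycB.P1Chart
  Groth.Agent.CycB.GraphMult Groth.Agent.CycB.GraphOrd

namespace K923.Mult

theorem constIdeal_eq_top {A L : Type*} [CommRing A] [Field L] (φ : A →+* L) {t : L} (ht : t ≠ 0)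
    (h : t⁻¹ ∈ φ.range) : constIdeal φ t = ⊤ := by
  obtain ⟨a, ha⟩ := h
  rw [Ideal.eq_top_iff_one, mem_constIdeal]
  refine ⟨1 - Polynomial.C a * Polynomial.X, ?_, by simp⟩
  simp only [Polynomial.eval₂_sub, Polynomial.eval₂_one, Polynomial.eval₂_mul, Polynomial.eval₂_C,
    Polynomial.eval₂_X, ha]
  rw [inv_mul_cancel₀ ht, sub_self]

theorem length_top {A : Type*} [CommRing A] {I : Ideal A} (h : I = ⊤) :
    (Module.length A (A ⧸ I)).toNat = 0 := by
  have : Subsingleton (A ⧸ I) := Ideal.Quotient.subsingleton_iff.2 h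
  rw [Module.length_eq_zero]
  rfl

variable {X : Scheme.{u}} [IsLocallyNoetherian X] {δ : X → ℤ} (hδ : Cyc.IsDimFun X δ)
  (ξ : X) (g : X.residueField ξ) (hg : g ≠ 0)

/-- the closure of `ξ` is a normal scheme: the local rings of dimension one are valuation rings -/
def NormalAt (δ : X → ℤ) (ξ : X) : Prop :=
  ∀ (x : X) (h : ξ ⤳ x), δ x + 1 = δ ξ →
    ∀ t : X.residueField ξ, t ∈ (Cyc.specMap x ξ h).range ∨ t⁻¹ ∈ (Cyc.specMap x ξ h).range

theorem subschemeFun_value {x : X} (h : ξ ⤳ x) {r : ℤ} (hr : δ x = r) :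
    Cyc.subschemeFun δ r (pullback.snd (pnt ξ g).imageι (P1.sect X 0)) x =
      ((Module.length (X.presheaf.stalk x)
        (X.presheaf.stalk x ⧸ constIdeal (Cyc.specMap x ξ h) g)).toNat : ℤ) := by
  have hwt : (pnt ξ g).toImage ≫ (pnt ξ g).imageι =
      pt 0 (Spec.map (CommRingCat.ofHom (Cyc.specMap x ξ h)) ≫ X.fromSpecStalk x) g := by
    rw [Scheme.Hom.toImage_imageι, ← fromSpecResidueField_eq h]
    rfl
  exact subschemeFun_eq (pnt ξ g).imageι (K := X.residueField ξ) (pnt ξ g).toImage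
    (toImage_closedPoint ξ g) 0 (CommRingCat.ofHom (Cyc.specMap x ξ h)) g hwt r hr

include hg in
theorem subschemeFun_value' {x : X} (h : ξ ⤳ x) {r : ℤ} (hr : δ x = r) :
    Cyc.subschemeFun δ r (pullback.snd (pnt ξ g).imageι (P1.sect X 1)) x =
      ((Module.length (X.presheaf.stalk x)
        (X.presheaf.stalk x ⧸ constIdeal (Cyc.specMap x ξ h) g⁻¹)).toNat : ℤ) := by
  have hwt : (pnt ξ g).toImage ≫ (pnt ξ g).imageι =
      pt 1 (Spec.map (CommRingCat.ofHom (Cyc.specMap x ξ h)) ≫ X.fromSpecStalk x) g⁻¹ := by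
    rw [Scheme.Hom.toImage_imageι, ← fromSpecResidueField_eq h]
    exact pt_inv 0 _ (mul_inv_cancel₀ hg)
  exact subschemeFun_eq (pnt ξ g).imageι (K := X.residueField ξ) (pnt ξ g).toImage
    (toImage_closedPoint ξ g) 1 (CommRingCat.ofHom (Cyc.specMap x ξ h)) g⁻¹ hwt r hr

include hδ hg in
/-- **the multiplicities are at most one** -/
theorem subschemeFun_le_one {r : ℤ} (hr : δ ξ = r + 1) (hn : NormalAt δ ξ)
    (hs : ∀ x, |Cyc.divFun δ ξ g x| ≤ 1) (i : Fin (1 + 1)) (x : X) :
    Cyc.subschemeFun δ r (pullback.snd (pnt ξ g).imageι (P1.sect X i)) x ≤ 1 := by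
  by_cases hx : δ x = r
  swap
  · unfold Cyc.subschemeFun
    rw [if_neg hx]
    exact zero_le_one
  by_cases h : ξ ⤳ x
  swap
  · rw [subschemeFun_eq_zero_of_notMem]
    · exact zero_le_one
    · intro h'
      apply h
      have h1 := specializes_of_mem_range (pnt ξ g).imageι i h'
      rw [imageι_genericPoint, ← Scheme.Hom.comp_apply, pnt_toBase] at h1
      rwa [Scheme.fromSpecResidueField_apply] at h1
  have key := congrFun (P1PtClosure.divFun_eq ξ g hδ hg r hr) x
  have hsx := hs x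
  rw [key] at hsx
  have h0 := subschemeFun_value ξ g h hx
  have h1 := subschemeFun_value' ξ g hg h hx
  rw [abs_le] at hsx
  rcases hn x h (by omega) g with hin | hin
  · rw [constIdeal_eq_top (Cyc.specMap x ξ h) (inv_ne_zero hg) (by rwa [inv_inv]), length_top rfl] at h1
    fin_cases i
    · change Cyc.subschemeFun δ r (pullback.snd (pnt ξ g).imageι (P1.sect X 0)) x ≤ 1
      omega
    · change Cyc.subschemeFun δ r (pullback.snd (pnt ξ g).imageι (P1.sect X 1)) x ≤ 1
      omega
  · rw [constIdeal_eq_top (Cyc.specMap x ξ h) hg hin, length_top rfl] at h0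
    fin_cases i
    · change Cyc.subschemeFun δ r (pullback.snd (pnt ξ g).imageι (P1.sect X 0)) x ≤ 1
      omega
    · change Cyc.subschemeFun δ r (pullback.snd (pnt ξ g).imageι (P1.sect X 1)) x ≤ 1
      omega

end K923.Mult
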