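import Groth.Agent.WeilCoh.K923.GeoFam
import Groth.Agent.WeilCoh.K923.Mult

/-!
# Divisors of functions on normal subvarieties are homologous to zero
-/

set_option autoImplicit false
set_option linter.unusedSectionVars false

universe u v

open CategoryTheory CategoryTheory.Limits AlgebraicGeometry WeilCoh
open Groth.Agent Groth.Agent.CycB

namespace K923.Normal

theorem finite_support_divFun {X : Scheme.{u}} [IsLocallyNoetherian X] [CompactSpace X] {δ : X → ℤ}
    (hδ : Cyc.IsDimFun X δ) (ξ : X) (f : X.residueField ξ) :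
    (Function.support (Cyc.divFun δ ξ f)).Finite := by
  choose U hU hxU hfin using DivFun.locallyFinite_divFun hδ ξ f
  obtain ⟨t, ht⟩ := isCompact_univ.elim_finite_subcover U hU (fun x _ => Set.mem_iUnion.mpr ⟨x, hxU x⟩)
  refine (t.finite_toSet.biUnion (t := fun x => U x ∩ Function.support (Cyc.divFun δ ξ f))
    fun x _ => hfin x).subset ?_
  intro y hy
  obtain ⟨x, hx, hyx⟩ := Set.mem_iUnion₂.mp (ht (Set.mem_univ y))
  exact Set.mem_iUnion₂.mpr ⟨x, hx, hyx, hy⟩

variable {k : Type u} [Field k] [IsAlgClosed k] {K : Type v} [Field K] [CharZero K] (T : Theory k K)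
  (X : Var k) (δ : ↥X.obj.left → ℤ) (hδ : Cyc.DeltaCompat X.obj.hom δ (fun _ => 0))
  (ξ : X.obj.left)

/-- the class of a function with finite support -/
noncomputable def cls (c : X.obj.left → ℤ) : T.H X := ∑ᶠ x : X.obj.left, ((c x : ℤ) : K) • T.cl X x

theorem cls_add (c d : X.obj.left → ℤ) (hc : (Function.support c).Finite)
    (hd : (Function.support d).Finite) : cls T X (c + d) = cls T X c + cls T X d := by
  unfold cls
  rw [← finsum_add_distrib]
  · refine finsum_congr fun x => ?_
    rw [Pi.add_apply, Int.cast_add, add_smul]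
  · refine hc.subset fun x hx hx' => hx ?_
    simp only [hx', Int.cast_zero, zero_smul]
  · refine hd.subset fun x hx hx' => hx ?_
    simp only [hx', Int.cast_zero, zero_smul]

theorem cls_zero : cls T X 0 = 0 := by
  unfold cls
  simp

theorem cls_neg (c : X.obj.left → ℤ) (hc : (Function.support c).Finite) :
    cls T X (-c) = - cls T X c := by
  have h := cls_add T X (-c) c (by rwa [Function.support_neg]) hc
  rw [neg_add_cancel, cls_zero] at h
  exact eq_neg_of_add_eq_zero_left h.symm

include hδ in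
theorem isSetup : Cyc.IsSetup X.obj.left δ := CycA.SetupField.isSetup_of_field X.obj.hom hδ

include hδ in
/-- **the class of the divisor of a function on a normal subvariety vanishes** -/
theorem cls_divFun (hn : GeoFam.NormalAt δ ξ) (f : X.obj.left.residueField ξ) (hf : f ≠ 0) :
    cls T X (Cyc.divFun δ ξ f) = 0 := by
  have hXs := isSetup X δ hδ
  have := hXs.1
  have hfin := fun g => finite_support_divFun hXs.2.2 ξ g
  let _ := (GeoFam.kξ X.obj.hom ξ).toAlgebra
  have hfam : Simple.Fam k (X.obj.left.residueField ξ) (GeoFam.w δ ξ) :=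
    GeoFam.isFam X.obj.hom δ ξ hXs.2.2 hn
  refine Simple.induction_simple hfam (P := fun g => cls T X (Cyc.divFun δ ξ g) = 0) ?_ ?_ ?_ f hf
  · intro g hg hs
    refine Sect.sum_divFun T X δ hδ ξ g hg (δ ξ - 1) (by ring) ?_
    refine Mult.subschemeFun_le_one hXs.2.2 ξ g hg (by ring) ?_ ?_
    · intro x h hx t
      let i : GeoFam.Idx δ ξ := ⟨x, h, hx⟩
      rcases le_total 0 (GeoFam.w δ ξ i t) with h0 | h0
      · exact Or.inl (GeoFam.mem_range_of_nonneg δ ξ hn i (Or.inr h0))
      · refine Or.inr (GeoFam.mem_range_of_nonneg δ ξ hn i (Or.inr ?_))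
        have : GeoFam.w δ ξ i t⁻¹ = - GeoFam.w δ ξ i t := OrdFrac.ordAt_inv h t
        omega
    · intro x
      by_cases hx : ξ ⤳ x ∧ δ x + 1 = δ ξ
      · have := hs ⟨x, hx⟩
        rwa [GeoFam.w_eq] at this
      · rw [OrdFrac.divFun_eq_zero δ hx]
        norm_num
  · intro a b ha hb h1 h2
    change cls T X (Cyc.divFun δ ξ (a * b)) = 0
    rw [OrdFrac.divFun_mul δ ha hb, cls_add T X _ _ (hfin a) (hfin b)]
    rw [show cls T X (Cyc.divFun δ ξ a) = 0 from h1, show cls T X (Cyc.divFun δ ξ b) = 0 from h2,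
      add_zero]
  · intro a ha h1
    change cls T X (Cyc.divFun δ ξ a⁻¹) = 0
    have : Cyc.divFun δ ξ a⁻¹ = - Cyc.divFun δ ξ a := by
      have h := OrdFrac.divFun_mul δ ha (inv_ne_zero ha)
      rw [mul_inv_cancel₀ ha, OrdFrac.divFun_one] at h
      exact (neg_eq_of_add_eq_zero_right h.symm).symm
    rw [this, cls_neg T X _ (hfin a), show cls T X (Cyc.divFun δ ξ a) = 0 from h1, neg_zero]

end K923.Normal
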