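import Groth.Agent.WeilCoh.K861.Total
import Groth.Agent.WeilCoh.K861.Graph
import Groth.Agent.WeilCoh.K861.Cycle
import Groth.Agent.IntMult.K304.P1Geo
import Groth.Agent.Gaga.H364.ProjRed
import Groth.Agent.AlgGrp.K406.P1Const
import Groth.Agent.S9692
import Groth.Agent.Dix.ProjProper

/-!
# Projective spaces over an object
-/

set_option autoImplicit false

universe u v

open CategoryTheory CategoryTheory.Limits AlgebraicGeometry WeilCoh
open Groth.Agent

namespace K923.PX

variable {k : Type u} [Field k] [IsAlgClosed k]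

/-- projective space over a variety is integral -/
theorem isIntegral_P (n : ℕ) {X : Scheme.{u}} (f : X ⟶ Spec (CommRingCat.of k)) [IsIntegral X]
    [IsSeparated f] [LocallyOfFiniteType f] [QuasiCompact f] :
    IsIntegral (CohB1.ProjSpaceOver n X) := by
  have H := Dix.ProjProper.isPullback_mapBase n f
  have h1 : IsIntegral (CohB1.ProjSpaceOver n (Spec (CommRingCat.of k))) :=
    K406.P1Const.isIntegral_projSpaceOver n k
  have h2 : IsIntegral (pullback (CohB1.ProjSpaceOver.toBase n (Spec (CommRingCat.of k))) f) :=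
    S1582.result k _ X _ f
  have : Nonempty (CohB1.ProjSpaceOver n X) := ⟨H.isoPullback.inv (genericPoint _)⟩
  exact isIntegral_of_isOpenImmersion H.isoPullback.hom

/-- `P^n_X` as an object -/
noncomputable def P (n : ℕ) (X : Var k) : Var k :=
  ⟨Over.mk (CohB1.ProjSpaceOver.toBase n X.obj.left ≫ X.obj.hom), by
    refine ⟨?_, ?_, ?_⟩
    · change Smooth (CohB1.ProjSpaceOver.toBase n X.obj.left ≫ X.obj.hom)
      infer_instance
    · exact S9692.result (CohB1.ProjSpaceOver.toBase n X.obj.left) X.obj.hom
        ⟨n, 𝟙 _, inferInstance, Category.id_comp _⟩ X.property.2.1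
    · change IrreducibleSpace ↥(CohB1.ProjSpaceOver n X.obj.left)
      have := isIntegral_P n X.obj.hom
      infer_instance⟩

theorem P_left (n : ℕ) (X : Var k) : (P n X).obj.left = CohB1.ProjSpaceOver n X.obj.left := rfl

/-- the projection -/
noncomputable def toX (n : ℕ) (X : Var k) : P n X ⟶ X :=
  ObjectProperty.homMk (Over.homMk (CohB1.ProjSpaceOver.toBase n X.obj.left) rfl)

theorem sm_toX (n : ℕ) (X : Var k) : sm (toX n X) = CohB1.ProjSpaceOver.toBase n X.obj.left := rfl

/-- the other projection -/
noncomputable def toP (n : ℕ) {X Y : Var k} (f : X ⟶ Y) : P n X ⟶ P n Y :=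
  ObjectProperty.homMk (Over.homMk (Dix.ProjProper.mapBase n (sm f)) (by
    change Dix.ProjProper.mapBase n (sm f) ≫ CohB1.ProjSpaceOver.toBase n Y.obj.left ≫ Y.obj.hom =
      CohB1.ProjSpaceOver.toBase n X.obj.left ≫ X.obj.hom
    rw [← Category.assoc, Dix.ProjProper.mapBase_toBase, Category.assoc]
    congr 1
    exact Over.w f.hom))

theorem sm_toP (n : ℕ) {X Y : Var k} (f : X ⟶ Y) : sm (toP n f) = Dix.ProjProper.mapBase n (sm f) := rfl

theorem isProd (n : ℕ) (X : Var k) :
    IsProd (toX n X) (toP n (K861.Point.toPt X)) := by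
  have H := (Dix.ProjProper.isPullback_mapBase n (sm (K861.Point.toPt X))).flip
  have h : (K861.Point.pt k).obj.hom = 𝟙 _ := rfl
  have hP : (P n (K861.Point.pt k)).obj.hom =
      CohB1.ProjSpaceOver.toBase n (K861.Point.pt k).obj.left := Category.comp_id _
  unfold IsProd
  rw [hP]
  exact H

/-- the sections of the projective line -/
noncomputable def sect (i : Fin (1 + 1)) (X : Var k) : X ⟶ P 1 X :=
  ObjectProperty.homMk (Over.homMk (P1.sect X.obj.left i) (by
    change P1.sect X.obj.left i ≫ CohB1.ProjSpaceOver.toBase 1 X.obj.left ≫ X.obj.hom = X.obj.hom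
    rw [← Category.assoc, CycA.P1Sect.sect_toBase, Category.id_comp]))

theorem sm_sect (i : Fin (1 + 1)) (X : Var k) : sm (sect i X) = P1.sect X.obj.left i := rfl

theorem sect_toX (i : Fin (1 + 1)) (X : Var k) : sect i X ≫ toX 1 X = 𝟙 X := by
  apply ObjectProperty.hom_ext
  apply Over.OverMorphism.ext
  exact CycA.P1Sect.sect_toBase X.obj.left i

theorem sect_mapBase {X Y : Scheme.{u}} (f : X ⟶ Y) (i : Fin (1 + 1)) :
    P1.sect X i ≫ Dix.ProjProper.mapBase 1 f = f ≫ P1.sect Y i := by
  apply CycB.P1Chart.hom_ext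
  · rw [Category.assoc, Category.assoc]
    have h1 : Dix.ProjProper.mapBase 1 f ≫ CycB.P1Chart.toZ Y = CycB.P1Chart.toZ X :=
      Dix.ProjProper.mapBase_toZ 1 f
    rw [h1, CycB.P1Chart.sect_eq, CycB.P1Chart.sect_eq, CycB.P1Chart.lift_toZ, CycB.P1Chart.lift_toZ,
      ← Category.assoc f, specULiftZIsTerminal.comp_from]
  · rw [Category.assoc, Category.assoc, Dix.ProjProper.mapBase_toBase, ← Category.assoc,
      CycA.P1Sect.sect_toBase, CycA.P1Sect.sect_toBase, Category.id_comp,
      Category.comp_id]

theorem sect_toP (i : Fin (1 + 1)) {X Y : Var k} (f : X ⟶ Y) :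
    sect i X ≫ toP 1 f = f ≫ sect i Y := by
  apply ObjectProperty.hom_ext
  apply Over.OverMorphism.ext
  exact sect_mapBase (sm f) i

set_option linter.unusedSectionVars false

variable {K : Type v} [Field K] [CharZero K] (T : Theory k K)

/-- classes pull back from the projective line to the point in the same way along both points -/
theorem pull_sect_pt (i j : Fin (1 + 1)) (b : T.H (P 1 (K861.Point.pt k))) :
    T.pull (sect i (K861.Point.pt k)) b = T.pull (sect j (K861.Point.pt k)) b := by
  induction b using K861.Basic.hom_induction T with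
  | hom m b hb =>
    by_cases hm : m = 0
    · subst hm
      obtain ⟨c, rfl⟩ := K861.Basic.exists_smul_one T hb
      rw [map_smul, map_smul, map_one, map_one]
    · have h1 : ∀ l : Fin (1 + 1), T.pull (sect l (K861.Point.pt k)) b = 0 := by
        intro l
        have h2 := T.pull_mem (sect l (K861.Point.pt k)) m b hb
        apply K861.Basic.eq_zero_of_lt T h2
        rw [K861.Point.dim_pt]
        rcases lt_or_gt_of_ne hm with h | h
        · exact Or.inl h
        · exact Or.inr (by simpa using h)
      rw [h1, h1]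
  | zero => rw [map_zero, map_zero]
  | add c d hc hd => rw [map_add, map_add, hc, hd]

/-- **the pull-backs along the sections of `P^1_X` agree** -/
theorem pull_sect (X : Var k) (i j : Fin (1 + 1)) (b : T.H (P 1 X)) :
    T.pull (sect i X) b = T.pull (sect j X) b := by
  induction b using K861.Basic.kunneth_induction T (isProd 1 X) with
  | hom m n a b ha hb =>
    rw [map_mul, map_mul, ← K861.Basic.pull_comp_apply, ← K861.Basic.pull_comp_apply,
      ← K861.Basic.pull_comp_apply, ← K861.Basic.pull_comp_apply, sect_toX, sect_toX, sect_toP, sect_toP,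
      K861.Basic.pull_comp_apply, K861.Basic.pull_comp_apply, pull_sect_pt T i j]
  | zero => rw [map_zero, map_zero]
  | add c d hc hd => rw [map_add, map_add, hc, hd]

end K923.PX
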