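import Groth.Agent.WeilCoh.K923.PX
import Groth.Agent.CycA.FibreComp
import Groth.Agent.CycA.DivMult2
import Groth.Agent.CycA.MovFin

/-!
# Pulling back the class of the closure of the graph of a rational function along the sections of the
projective line
-/

set_option autoImplicit false
set_option linter.unusedSectionVars false

universe u v

open CategoryTheory CategoryTheory.Limits AlgebraicGeometry WeilCoh
open Groth.Agent Groth.Agent.CycB Groth.Agent.CycB.P1PtClosure

namespace K923.Sect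

section Scheme

variable {k : Type u} [Field k] {X : Scheme.{u}} (p : X ⟶ Spec (CommRingCat.of k)) [LocallyOfFiniteType p]
  {δ : X → ℤ} (hδ : Cyc.DeltaCompat p δ (fun _ => 0)) {δP : ↥(CohB1.ProjSpaceOver 1 X) → ℤ}
  (hP : Cyc.DeltaCompat (CohB1.ProjSpaceOver.toBase 1 X) δP δ)
  (ξ : X) (g : X.residueField ξ) (hg : g ≠ 0)

/-- the generic point of the graph -/
noncomputable abbrev v : ↥(CohB1.ProjSpaceOver 1 X) := pnt ξ g (IsLocalRing.closedPoint (X.residueField ξ))

include hg in
theorem v_notMem (i : Fin (1 + 1)) : v ξ g ∉ Set.range (P1.sect X i) :=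
  pt_notMem_range_sect' (isField_residueField ξ) 0 i _ g hg _

include hP in
theorem delta_v : δP (v ξ g) = δ ξ :=
  P1PtClosure.delta_eq (CohB1.ProjSpaceOver.toBase 1 X) hP (pnt ξ g) (pnt_toBase ξ g)

include hδ hP hg in
/-- the components of the intersection of the closure of the graph with a section -/
theorem isCompPt_iff (i : Fin (1 + 1)) (w : X) :
    IsCompPt ((P1.sect X i) ⁻¹' closure ({v ξ g} : Set ↥(CohB1.ProjSpaceOver 1 X))) w ↔
      v ξ g ⤳ P1.sect X i w ∧ δ w + 1 = δ ξ := by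
  have hXs := CycA.SetupField.isSetup_of_field p hδ
  have hPs := CycA.MovGeo.isSetup_P p hδ hP
  have := hPs.1
  have hcl := CycA.P1Sect.isClosedImmersion_sect X i
  have hmem : ∀ x : X, x ∈ (P1.sect X i) ⁻¹' closure ({v ξ g} : Set ↥(CohB1.ProjSpaceOver 1 X)) ↔
      v ξ g ⤳ P1.sect X i x := fun x => (specializes_iff_mem_closure).symm
  constructor
  · rintro ⟨h1, h2⟩
    rw [hmem] at h1
    refine ⟨h1, ?_⟩
    obtain ⟨t, -, ht⟩ := CycA.P1Sect.exists_ker_stalkMap_sect (X := X) i w
    have h3 := CycA.FibreComp.delta_fibre_component hPs.2.2 (P1.sect X i) w ⟨t, ht⟩ h1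
      (v_notMem ξ g hg i) (fun z hz hz' => h2 z ((hmem z).mpr hz') hz)
    rw [delta_v hP, CycA.MovGeo.delta_sect hP] at h3
    exact h3.symm
  · rintro ⟨h1, h2⟩
    refine ⟨(hmem w).mpr h1, fun w' hw' hs => ?_⟩
    rw [hmem] at hw'
    by_contra hne
    have h3 := LocQuot.lt_of_specializes hXs.2.2 hs hne
    have h4 := LocQuot.lt_of_specializes hPs.2.2 hw' (fun h => v_notMem ξ g hg i ⟨w', h.symm⟩)
    rw [delta_v hP, CycA.MovGeo.delta_sect hP] at h4
    omega

/-- the multiplicities are those of the scheme-theoretic fibre -/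
theorem preimMult_eq (i : Fin (1 + 1)) (r : ℤ) (w : X) (hw : δ w = r)
    (h : P1.sect X i w ∈ closure ({v ξ g} : Set ↥(CohB1.ProjSpaceOver 1 X))) :
    (preimMult (P1.sect X i) (v ξ g) w h : ℤ) =
      Cyc.subschemeFun δ r (pullback.snd (pnt ξ g).imageι (P1.sect X i)) w := by
  rw [CycA.DivMult.subschemeFun_snd (P1.sect X i) (pnt ξ g).imageι δ r w hw, imageι_genericPoint,
    CycA.StalkIdeal.stalkIdeal_ptIdeal (specializes_iff_mem_closure.mpr h)]
  rfl

theorem subschemeFun_eq_zero (i : Fin (1 + 1)) (r : ℤ) (w : X)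
    (h : ¬ (v ξ g ⤳ P1.sect X i w ∧ δ w = r)) :
    Cyc.subschemeFun δ r (pullback.snd (pnt ξ g).imageι (P1.sect X i)) w = 0 := by
  by_cases hr : δ w = r
  · apply CycA.DivMult.subschemeFun_eq_zero_of_not_specializes
    rw [imageι_genericPoint]
    exact fun h' => h ⟨h', hr⟩
  · unfold Cyc.subschemeFun
    rw [if_neg hr]

include hδ hP hg in
theorem subschemeFun_ne_zero (i : Fin (1 + 1)) (w : X) (h1 : v ξ g ⤳ P1.sect X i w)
    (h2 : δ w + 1 = δ ξ) :
    Cyc.subschemeFun δ (δ w) (pullback.snd (pnt ξ g).imageι (P1.sect X i)) w ≠ 0 := by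
  have hXs := CycA.SetupField.isSetup_of_field p hδ
  have := hXs.1
  have hcomp := (isCompPt_iff p hδ hP ξ g hg i w).mpr ⟨h1, h2⟩
  have hmem : ∀ z : X, z ∈ Set.range (pullback.snd (pnt ξ g).imageι (P1.sect X i)) ↔
      v ξ g ⤳ P1.sect X i z := fun z => by
    rw [CycA.FibreComp.mem_range_snd_iff, imageι_genericPoint]
  refine CycA.FibreComp.subschemeFun_ne_zero _ rfl ((hmem w).mpr h1) (fun z hz hz' => ?_)
  exact hcomp.2 z (specializes_iff_mem_closure.mp ((hmem z).mp hz')) hz

end Scheme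

section Var

open K923.PX

variable {k : Type u} [Field k] [IsAlgClosed k] {K : Type v} [Field K] [CharZero K] (T : Theory k K)
  (X : Var k) (δ : ↥X.obj.left → ℤ) (hδ : Cyc.DeltaCompat X.obj.hom δ (fun _ => 0))
  (ξ : X.obj.left) (g : X.obj.left.residueField ξ) (hg : g ≠ 0)

include hδ hg in
/-- **the pull-back of the class of the graph along a section** -/
theorem pull_cl (i : Fin (1 + 1)) (r : ℤ) (hr : δ ξ = r + 1)
    (hmult : ∀ x, Cyc.subschemeFun δ r (pullback.snd (pnt ξ g).imageι (P1.sect X.obj.left i)) x ≤ 1) :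
    T.pull (sect i X) (T.cl (P 1 X) (v ξ g)) =
      ∑ᶠ x : X.obj.left, ((Cyc.subschemeFun δ r
        (pullback.snd (pnt ξ g).imageι (P1.sect X.obj.left i)) x : ℤ) : K) • T.cl X x := by
  classical
  obtain ⟨δP, hP⟩ := SetupLft.exists_deltaCompat (CohB1.ProjSpaceOver.toBase 1 X.obj.left) δ
  have hδP : Cyc.DeltaCompat (P 1 X).obj.hom δP (fun _ => 0) := RelDim.deltaCompat_comp hP hδ
  have hcomp := isCompPt_iff X.obj.hom hδ hP ξ g hg i
  have hmul : ∀ (w : X.obj.left)
      (hw : IsCompPt ((P1.sect X.obj.left i) ⁻¹' closure ({v ξ g} : Set ↥(CohB1.ProjSpaceOver 1 X.obj.left))) w),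
      (preimMult (P1.sect X.obj.left i) (v ξ g) w hw.1 : ℤ) =
        Cyc.subschemeFun δ r (pullback.snd (pnt ξ g).imageι (P1.sect X.obj.left i)) w := by
    intro w hw
    exact preimMult_eq ξ g i r w (by have := ((hcomp w).mp hw).2; omega) hw.1
  have hone : ∀ (w : X.obj.left)
      (hw : IsCompPt ((P1.sect X.obj.left i) ⁻¹' closure ({v ξ g} : Set ↥(CohB1.ProjSpaceOver 1 X.obj.left))) w),
      preimMult (P1.sect X.obj.left i) (v ξ g) w hw.1 = 1 := by
    intro w hw
    have h1 := hmul w hw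
    have h2 := hmult w
    have h3 := (hcomp w).mp hw
    have h4 := subschemeFun_ne_zero X.obj.hom hδ hP ξ g hg i w h3.1 h3.2
    have h5 : δ w = r := by omega
    rw [h5] at h4
    omega
  have hdim : (WeilCoh.dim (P 1 X).obj.left : ℤ) = WeilCoh.dim X.obj.left + 1 := by
    have e1 := K861.Dim.pdim_genericPoint (P 1 X)
    have e2 := K861.Dim.pdim_genericPoint X
    have e3 := K861.Cycle.delta_eq_pdim (P 1 X).obj.hom δP hδP (genericPoint ↥(P 1 X).obj.left)
    have e4 := K861.Cycle.delta_eq_pdim X.obj.hom δ hδ (genericPoint ↥X.obj.left)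
    have hint : IsIntegral (CohB1.ProjSpaceOver 1 X.obj.left) := isIntegral_P 1 X.obj.hom
    have e5 : δP (genericPoint ↥(P 1 X).obj.left) = δ (genericPoint ↥X.obj.left) + 1 :=
      K304.P1Geo.delta_genericPoint hP
    rw [← e1, ← e2, ← e3, ← e4, e5]
  have key := T.cl_pull (sect i X) (v ξ g)
    (fun w hw => by
      have h1 := ((hcomp w).mp hw).2
      have h2 := K861.Cycle.delta_eq_pdim X.obj.hom δ hδ w
      have h3 := K861.Cycle.delta_eq_pdim (P 1 X).obj.hom δP hδP (v ξ g)
      have h4 : δP (v ξ g) = δ ξ := delta_v hP ξ g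
      rw [← h2, ← h3, hdim, h4]
      omega)
    (Or.inr hone)
  rw [key]
  have e : ∀ w : {w : X.obj.left // IsCompPt ((P1.sect X.obj.left i) ⁻¹'
      closure ({v ξ g} : Set ↥(CohB1.ProjSpaceOver 1 X.obj.left))) w},
      (preimMult (P1.sect X.obj.left i) (v ξ g) w.1 w.2.1 : K) • T.cl X w.1 =
        ((Cyc.subschemeFun δ r
          (pullback.snd (pnt ξ g).imageι (P1.sect X.obj.left i)) w.1 : ℤ) : K) • T.cl X w.1 := by
    intro w
    rw [← hmul w.1 w.2, Int.cast_natCast]
  refine (finsum_congr e).trans ?_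
  rw [finsum_subtype_eq_finsum_cond (f := fun w => ((Cyc.subschemeFun δ r
          (pullback.snd (pnt ξ g).imageι (P1.sect X.obj.left i)) w : ℤ) : K) • T.cl X w)]
  refine finsum_congr fun w => ?_
  by_cases hw : IsCompPt ((P1.sect X.obj.left i) ⁻¹'
      closure ({v ξ g} : Set ↥(CohB1.ProjSpaceOver 1 X.obj.left))) w
  · rw [finsum_eq_if, if_pos hw]
  · rw [finsum_eq_if, if_neg hw, subschemeFun_eq_zero ξ g i r w, Int.cast_zero, zero_smul]
    intro h
    exact hw ((hcomp w).mpr ⟨h.1, by omega⟩)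

include hδ hg in
/-- **the class of the divisor of a function with simple zeros and poles vanishes** -/
theorem sum_divFun (r : ℤ) (hr : δ ξ = r + 1)
    (hmult : ∀ (i : Fin (1 + 1)) (x : X.obj.left),
      Cyc.subschemeFun δ r (pullback.snd (pnt ξ g).imageι (P1.sect X.obj.left i)) x ≤ 1) :
    ∑ᶠ x : X.obj.left, ((Cyc.divFun δ ξ g x : ℤ) : K) • T.cl X x = 0 := by
  have hXs := CycA.SetupField.isSetup_of_field X.obj.hom hδ
  have := hXs.1
  have hN : TopologicalSpace.NoetherianSpace ↥X.obj.left := by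
    have : IsNoetherian X.obj.left := {}
    infer_instance
  have h0 := pull_cl T X δ hδ ξ g hg 0 r hr (hmult 0)
  have h1 := pull_cl T X δ hδ ξ g hg 1 r hr (hmult 1)
  have hfin : ∀ i : Fin (1 + 1), (Function.support fun x : X.obj.left => ((Cyc.subschemeFun δ r
        (pullback.snd (pnt ξ g).imageι (P1.sect X.obj.left i)) x : ℤ) : K) • T.cl X x).Finite := by
    intro i
    have hcl := CycA.P1Sect.isClosedImmersion_sect X.obj.left i
    have : IsClosedImmersion (pullback.snd (pnt ξ g).imageι (P1.sect X.obj.left i)) := inferInstance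
    refine (CycA.MovFin.finite_support_subschemeFun δ r
      (pullback.snd (pnt ξ g).imageι (P1.sect X.obj.left i))).subset ?_
    intro x hx hx'
    apply hx
    simp only [hx', Int.cast_zero, zero_smul]
  rw [P1PtClosure.divFun_eq ξ g hXs.2.2 hg r hr]
  have e : ∀ x : X.obj.left, ((Cyc.subschemeFun δ r
        (pullback.snd (pnt ξ g).imageι (P1.sect X.obj.left 0)) x -
        Cyc.subschemeFun δ r (pullback.snd (pnt ξ g).imageι (P1.sect X.obj.left 1)) x : ℤ) : K) • T.cl X x =
      ((Cyc.subschemeFun δ r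
        (pullback.snd (pnt ξ g).imageι (P1.sect X.obj.left 0)) x : ℤ) : K) • T.cl X x -
      ((Cyc.subschemeFun δ r
        (pullback.snd (pnt ξ g).imageι (P1.sect X.obj.left 1)) x : ℤ) : K) • T.cl X x := by
    intro x
    rw [Int.cast_sub, sub_smul]
  rw [finsum_congr e, finsum_sub_distrib (hfin 0) (hfin 1), ← h0, ← h1, pull_sect T X 0 1, sub_self]

end Var

end K923.Sect
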