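import Mathlib.Analysis.AbsoluteValue.Equivalence
import Mathlib.FieldTheory.IsAlgClosed.Basic
import Mathlib.RingTheory.Derivation.Basic
import Groth.Agent.Variety.K430.PDeg
import Groth.Agent.S2148

/-!
# Rational functions are products of functions with simple zeros and poles

`F` a field over an algebraically closed field `k`, `w i` a family of discrete valuations of `F` over `k`
such that every nonzero function has finitely many zeros and poles and every derivation of `F` over `k`
preserves almost all valuation rings. Then every nonzero function is a product of functions with simple zeros and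
poles and inverses of such.
-/

set_option autoImplicit false

universe u v

namespace K923.Simple

/-- a family of discrete valuations -/
structure Fam (k F : Type*) [Field k] [Field F] [Algebra k F] {I : Type*} (w : I → F → ℤ) : Prop where
  mul : ∀ i a b, a ≠ 0 → b ≠ 0 → w i (a * b) = w i a + w i b
  add : ∀ i a b, a ≠ 0 → b ≠ 0 → a + b ≠ 0 → min (w i a) (w i b) ≤ w i (a + b)
  const : ∀ i (c : k), c ≠ 0 → w i (algebraMap k F c) = 0
  unif : ∀ i, ∃ π, π ≠ 0 ∧ w i π = 1
  fin : ∀ a, a ≠ 0 → {i | w i a ≠ 0}.Finite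
  der : ∀ D : Derivation k F F, {i | ∃ a, a ≠ 0 ∧ 0 ≤ w i a ∧ D a ≠ 0 ∧ w i (D a) < 0}.Finite
  sep : ∀ i j, i ≠ j → ∃ a, a ≠ 0 ∧ 0 ≤ w i a ∧ w j a < 0

namespace Fam

variable {k F : Type*} [Field k] [Field F] [Algebra k F] {I : Type*} {w : I → F → ℤ}

theorem one (h : Fam k F w) (i : I) : w i 1 = 0 := by
  have := h.const i 1 one_ne_zero
  rwa [map_one] at this

theorem inv (h : Fam k F w) (i : I) {a : F} (ha : a ≠ 0) : w i a⁻¹ = - w i a := by
  have := h.mul i a a⁻¹ ha (inv_ne_zero ha)
  rw [mul_inv_cancel₀ ha, h.one] at this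
  omega

theorem div (h : Fam k F w) (i : I) {a b : F} (ha : a ≠ 0) (hb : b ≠ 0) :
    w i (a / b) = w i a - w i b := by
  rw [div_eq_mul_inv, h.mul i _ _ ha (inv_ne_zero hb), h.inv i hb]
  rfl

theorem pow (h : Fam k F w) (i : I) {a : F} (ha : a ≠ 0) (n : ℕ) : w i (a ^ n) = n * w i a := by
  induction n with
  | zero => rw [pow_zero, h.one]; simp
  | succ n ih =>
    rw [pow_succ, h.mul i _ _ (pow_ne_zero _ ha) ha, ih]
    push_cast; ring

theorem neg_one (h : Fam k F w) (i : I) : w i (-1) = 0 := by
  have := h.const i (-1) (neg_ne_zero.mpr one_ne_zero)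
  rwa [map_neg, map_one] at this

theorem neg (h : Fam k F w) (i : I) {a : F} (ha : a ≠ 0) : w i (-a) = w i a := by
  rw [neg_eq_neg_one_mul, h.mul i _ _ (neg_ne_zero.mpr one_ne_zero) ha, h.neg_one, zero_add]

/-- the sum of elements of different values -/
theorem add_eq_of_lt (h : Fam k F w) (i : I) {a b : F} (ha : a ≠ 0) (hb : b ≠ 0)
    (hlt : w i a < w i b) : a + b ≠ 0 ∧ w i (a + b) = w i a := by
  have hne : a + b ≠ 0 := by
    intro h0
    have : b = -a := by linear_combination h0
    rw [this, h.neg i ha] at hlt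
    exact lt_irrefl _ hlt
  refine ⟨hne, ?_⟩
  have h1 := h.add i a b ha hb hne
  have h2 := h.add i (a + b) (-b) hne (neg_ne_zero.mpr hb) (by simpa using ha)
  rw [add_neg_cancel_right, h.neg i hb] at h2
  omega

/-- adding a constant to a function with a pole -/
theorem add_const (h : Fam k F w) (i : I) {a : F} (ha : a ≠ 0) (hlt : w i a < 0) (c : k) :
    w i (a + algebraMap k F c) = w i a := by
  by_cases hc : c = 0
  · rw [hc, map_zero, add_zero]
  · exact (h.add_eq_of_lt i ha ((map_ne_zero _).mpr hc) (by rw [h.const i c hc]; exact hlt)).2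

/-- a function regular at `i` takes at most one value at `i` -/
theorem const_unique (h : Fam k F w) (i : I) {a : F} {c c' : k} (h0 : a + algebraMap k F c ≠ 0)
    (h0' : a + algebraMap k F c' ≠ 0)
    (h1 : 0 < w i (a + algebraMap k F c)) (h2 : 0 < w i (a + algebraMap k F c')) : c = c' := by
  by_contra hne
  have hs : (a + algebraMap k F c) + (-(a + algebraMap k F c')) = algebraMap k F (c - c') := by
    rw [map_sub]; ring
  have hcc : algebraMap k F (c - c') ≠ 0 := (map_ne_zero _).mpr (sub_ne_zero.mpr hne)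
  have := h.add i _ (-(a + algebraMap k F c')) h0 (neg_ne_zero.mpr h0') (by rw [hs]; exact hcc)
  rw [hs, h.const i _ (sub_ne_zero.mpr hne), h.neg i h0'] at this
  omega

/-- **general translates have simple zeros** -/
theorem finite_bad (h : Fam k F w) {a : F} (D : Derivation k F F) (hD : D a ≠ 0) (T : Set I)
    (hT : T.Finite) :
    {c : k | ∃ i, 0 < w i (a + algebraMap k F c) ∧ (i ∈ T ∨ 1 < w i (a + algebraMap k F c))}.Finite := by
  have hDc : ∀ c : k, D (a + algebraMap k F c) = D a := fun c => by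
    rw [map_add, D.map_algebraMap, add_zero]
  have hne : ∀ c : k, a + algebraMap k F c ≠ 0 := fun c h0 => hD (by rw [← hDc c, h0, map_zero])
  set E : Set I := T ∪ {i | ∃ a, a ≠ 0 ∧ 0 ≤ w i a ∧ D a ≠ 0 ∧ w i (D a) < 0} ∪ {i | w i (D a) ≠ 0}
    with hE
  have hEfin : E.Finite := (hT.union (h.der D)).union (h.fin _ hD)
  -- a bad point lies in `E`
  have key : ∀ c : k, ∀ i, 0 < w i (a + algebraMap k F c) →
      (i ∈ T ∨ 1 < w i (a + algebraMap k F c)) → i ∈ E := by
    intro c i hi hor
    by_contra hiE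
    have hiT : i ∉ T := fun h' => hiE (Or.inl (Or.inl h'))
    have hD2 : ∀ b, b ≠ 0 → 0 ≤ w i b → D b ≠ 0 → 0 ≤ w i (D b) := by
      intro b hb0 hb hDb
      by_contra hlt
      exact hiE (Or.inl (Or.inr ⟨b, hb0, hb, hDb, not_le.mp hlt⟩))
    have hDa : w i (D a) = 0 := by
      by_contra h'
      exact hiE (Or.inr h')
    have h2 : 1 < w i (a + algebraMap k F c) := hor.resolve_left hiT
    obtain ⟨π, hπ0, hπ⟩ := h.unif i
    set s := a + algebraMap k F c with hs
    have h2' : 1 < w i s := h2
    have hs0 : s ≠ 0 := hne c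
    set t := s / (π * π) with ht
    have hππ : π * π ≠ 0 := mul_ne_zero hπ0 hπ0
    have ht0 : t ≠ 0 := div_ne_zero hs0 hππ
    have hwt : 0 ≤ w i t := by
      rw [ht, h.div i hs0 hππ, h.mul i _ _ hπ0 hπ0, hπ]
      omega
    have hst : s = t * (π * π) := by rw [ht, div_mul_cancel₀ _ hππ]
    have hDs : D a = π * (π * D t + t * D π + t * D π) := by
      rw [← hDc c, ← hs, hst, D.leibniz, D.leibniz]
      simp only [smul_eq_mul]
      ring
    -- every summand is zero or of nonnegative value
    have hsum : ∀ x y : F, (x = 0 ∨ 0 ≤ w i x) → (y = 0 ∨ 0 ≤ w i y) → (x + y = 0 ∨ 0 ≤ w i (x + y)) := by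
      rintro x y (rfl | hx) hy
      · rwa [zero_add]
      · rcases hy with rfl | hy
        · rw [add_zero]; exact Or.inr hx
        · by_cases hx0 : x = 0
          · rw [hx0, zero_add]; exact Or.inr hy
          · by_cases hy0 : y = 0
            · rw [hy0, add_zero]; exact Or.inr hx
            · by_cases hxy : x + y = 0
              · exact Or.inl hxy
              · refine Or.inr ?_
                have := h.add i x y hx0 hy0 hxy
                omega
    have hprod : ∀ x y : F, (x = 0 ∨ 0 ≤ w i x) → (y = 0 ∨ 0 ≤ w i y) → (x * y = 0 ∨ 0 ≤ w i (x * y)) := by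
      rintro x y hx hy
      by_cases hx0 : x = 0
      · left; rw [hx0, zero_mul]
      · by_cases hy0 : y = 0
        · left; rw [hy0, mul_zero]
        · right
          rw [h.mul i x y hx0 hy0]
          have := hx.resolve_left hx0
          have := hy.resolve_left hy0
          omega
    have hder : ∀ x : F, x ≠ 0 → 0 ≤ w i x → (D x = 0 ∨ 0 ≤ w i (D x)) := by
      intro x hx0 hx
      by_cases h' : D x = 0
      · exact Or.inl h'
      · exact Or.inr (hD2 x hx0 hx h')
    have hπ' : (π = 0 ∨ 0 ≤ w i π) := Or.inr (by omega)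
    have ht' : (t = 0 ∨ 0 ≤ w i t) := Or.inr hwt
    have hDt := hder t ht0 hwt
    have hDπ := hder π hπ0 (by omega)
    have hfac := hsum _ _ (hsum _ _ (hprod _ _ hπ' hDt) (hprod _ _ ht' hDπ)) (hprod _ _ ht' hDπ)
    set r := π * D t + t * D π + t * D π with hr
    have hr0 : r ≠ 0 := by
      intro h0
      rw [h0, mul_zero] at hDs
      exact hD hDs
    have h3 := hfac.resolve_left hr0
    rw [hDs, h.mul i _ _ hπ0 hr0, hπ] at hDa
    omega
  -- the bad constants inject into `E`
  classical
  refine Set.Finite.subset (s := ⋃ i ∈ E, {c : k | 0 < w i (a + algebraMap k F c)}) ?_ ?_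
  · refine hEfin.biUnion fun i _ => Set.Subsingleton.finite ?_
    intro c hc c' hc'
    exact h.const_unique i (hne c) (hne c') hc hc'
  · rintro c ⟨i, hi, hor⟩
    exact Set.mem_iUnion₂.mpr ⟨i, key c i hi hor, hi⟩

/-- the absolute value of a discrete valuation -/
noncomputable def abv (h : Fam k F w) (i : I) : AbsoluteValue F ℝ := by
  classical
  exact
  { toFun := fun a => if a = 0 then 0 else (2 : ℝ) ^ (- w i a)
    map_mul' := by
      intro a b
      by_cases ha : a = 0
      · simp [ha]
      by_cases hb : b = 0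
      · simp [hb]
      rw [if_neg (mul_ne_zero ha hb), if_neg ha, if_neg hb, h.mul i a b ha hb, ← zpow_add₀ two_ne_zero]
      congr 1
      ring
    nonneg' := by
      intro a
      split_ifs
      · exact le_rfl
      · positivity
    eq_zero' := by
      intro a
      constructor
      · intro h'
        by_contra ha
        rw [if_neg ha] at h'
        have : (0 : ℝ) < 2 ^ (- w i a) := by positivity
        exact this.ne' h'
      · intro ha
        rw [if_pos ha]
    add_le' := by
      intro a b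
      by_cases ha : a = 0
      · simp [ha]
      by_cases hb : b = 0
      · simp [hb]
      by_cases hab : a + b = 0
      · rw [if_pos hab, if_neg ha, if_neg hb]; positivity
      rw [if_neg hab, if_neg ha, if_neg hb]
      have h1 := h.add i a b ha hb hab
      have hpa : (0 : ℝ) < 2 ^ (- w i a) := by positivity
      have hpb : (0 : ℝ) < 2 ^ (- w i b) := by positivity
      rcases min_le_iff.mp h1 with h2 | h2
      · have : (2 : ℝ) ^ (- w i (a + b)) ≤ 2 ^ (- w i a) :=
          zpow_le_zpow_right₀ one_le_two (by omega)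
        linarith
      · have : (2 : ℝ) ^ (- w i (a + b)) ≤ 2 ^ (- w i b) :=
          zpow_le_zpow_right₀ one_le_two (by omega)
        linarith }

theorem abv_apply (h : Fam k F w) (i : I) {a : F} (ha : a ≠ 0) : h.abv i a = (2 : ℝ) ^ (- w i a) := by
  classical
  change (if a = 0 then (0 : ℝ) else (2 : ℝ) ^ (- w i a)) = _
  rw [if_neg ha]

theorem abv_le_one_iff (h : Fam k F w) (i : I) {a : F} (ha : a ≠ 0) : h.abv i a ≤ 1 ↔ 0 ≤ w i a := by
  rw [h.abv_apply i ha, zpow_le_one_iff_right₀ one_lt_two]
  omega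

theorem one_lt_abv_iff (h : Fam k F w) (i : I) {a : F} (ha : a ≠ 0) : 1 < h.abv i a ↔ w i a < 0 := by
  rw [h.abv_apply i ha, one_lt_zpow_iff_right₀ one_lt_two]
  omega

theorem abv_lt_one_iff (h : Fam k F w) (i : I) {a : F} (ha : a ≠ 0) : h.abv i a < 1 ↔ 0 < w i a := by
  rw [h.abv_apply i ha, zpow_lt_one_iff_right₀ one_lt_two]
  omega

/-- weak approximation -/
theorem exists_approx (h : Fam k F w) (i : I) (T : Set I) (hT : T.Finite) (hi : i ∉ T) :
    ∃ x : F, x ≠ 0 ∧ w i x < 0 ∧ ∀ j ∈ T, 0 < w j x := by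
  classical
  set T' : Set I := insert i T
  have hfin : Finite T' := (hT.insert i)
  obtain ⟨a, ha1, ha2⟩ := AbsoluteValue.exists_one_lt_lt_one_pi_of_not_isEquiv
    (v := fun j : T' => h.abv j.1)
    (fun j => by
      obtain ⟨π, hπ0, hπ⟩ := h.unif j.1
      refine ⟨π, hπ0, ?_⟩
      have := (h.abv_lt_one_iff j.1 hπ0).mpr (by omega)
      exact this.ne)
    (fun j j' hjj' he => by
      obtain ⟨b, hb0, hb1, hb2⟩ := h.sep j.1 j'.1 (fun h' => hjj' (Subtype.ext h'))
      have h1 := (h.abv_le_one_iff j.1 hb0).mpr hb1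
      have h2 := (h.one_lt_abv_iff j'.1 hb0).mpr hb2
      exact absurd (he.le_one_iff.mp h1) (not_le.mpr h2))
    ⟨i, Set.mem_insert i T⟩
  have ha0 : a ≠ 0 := by
    rintro rfl
    rw [map_zero] at ha1
    exact absurd ha1 (by norm_num)
  refine ⟨a, ha0, (h.one_lt_abv_iff i ha0).mp ha1, fun j hj => ?_⟩
  have hji : (⟨j, Set.mem_insert_of_mem i hj⟩ : T') ≠ ⟨i, Set.mem_insert i T⟩ := by
    intro h'
    have : j = i := congrArg Subtype.val h'
    exact hi (this ▸ hj)
  exact (h.abv_lt_one_iff j ha0).mp (ha2 _ hji)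

end Fam

/-! ### derivations -/

section Der

variable {k F : Type u} [Field k] [IsAlgClosed k] [Field F] [Algebra k F] {I : Type v} {w : I → F → ℤ}

omit [IsAlgClosed k] in
theorem exists_der_of_transcendental [CharZero k] {b : F} (hb : Transcendental k b) :
    ∃ D : Derivation k F F, D b ≠ 0 := by
  classical
  have hb' : AlgebraicIndepOn k id ({b} : Set F) :=
    (algebraicIndependent_singleton_iff (⟨b, rfl⟩ : ({b} : Set F))).mpr hb
  obtain ⟨s, hbs, hs⟩ := exists_isTranscendenceBasis_superset hb'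
  have : Algebra.IsAlgebraic (IntermediateField.adjoin k (Set.range ((↑) : s → F))) F :=
    hs.isAlgebraic_field
  have : CharZero (IntermediateField.adjoin k (Set.range ((↑) : s → F))) :=
    charZero_of_injective_algebraMap (algebraMap k _).injective
  have : Algebra.IsSeparable (IntermediateField.adjoin k (Set.range ((↑) : s → F))) F :=
    inferInstance
  obtain ⟨D, hD⟩ := K430.PDeg.exists_derivation hs.1 (⟨b, hbs rfl⟩ : s)
  refine ⟨D, ?_⟩
  have := hD ⟨b, hbs rfl⟩
  rw [if_pos rfl] at this
  rw [this]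
  exact one_ne_zero

omit [IsAlgClosed k] in
theorem exists_der_of_D_ne_zero {b : F} (hb : KaehlerDifferential.D k F b ≠ 0) :
    ∃ D : Derivation k F F, D b ≠ 0 := by
  obtain ⟨l, hl, -⟩ := Submodule.exists_le_ker_of_notMem (K := F) (p := ⊥)
    (v := KaehlerDifferential.D k F b) (by simpa using hb)
  exact ⟨l.compDer (KaehlerDifferential.D k F), hl⟩

/-- **functions with a zero or pole of order prime to the characteristic have a nonzero differential** -/
theorem exists_der (h : Fam k F w) {b : F} (hb0 : b ≠ 0) (i : I) (hb : ((w i b : ℤ) : k) ≠ 0) :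
    ∃ D : Derivation k F F, D b ≠ 0 := by
  obtain ⟨p, hp⟩ := CharP.exists k
  rcases CharP.char_is_prime_or_zero k p with hpp | rfl
  · have : Fact p.Prime := ⟨hpp⟩
    apply exists_der_of_D_ne_zero
    intro h0
    obtain ⟨c, hc⟩ := (Groth.Agent.S2148.result p b).mp h0
    have hc0 : c ≠ 0 := by
      rintro rfl
      rw [zero_pow hpp.ne_zero] at hc
      exact hb0 hc.symm
    apply hb
    rw [← hc, h.pow i hc0]
    push_cast
    rw [CharP.cast_eq_zero, zero_mul]
  · have : CharZero k := CharP.charP_to_charZero k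
    apply exists_der_of_transcendental
    intro halg
    obtain ⟨c, rfl⟩ := minpoly.mem_range_of_degree_eq_one k b
      (IsAlgClosed.degree_eq_one_of_irreducible k (minpoly.irreducible halg.isIntegral))
    apply hb
    have hc : c ≠ 0 := by
      rintro rfl
      exact hb0 (map_zero _)
    rw [h.const i c hc, Int.cast_zero]

/-- the two derivations -/
theorem exists_pow (h : Fam k F w) (i : I) {a x : F} (ha0 : a ≠ 0) (ha : w i a = 1)
    (hx0 : x ≠ 0) (hx : w i x < 0) (N : ℕ) :
    ∃ M : ℕ, N ≤ M ∧ (∃ D : Derivation k F F, D (x ^ M * (1 + a)) ≠ 0) ∧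
      ∃ D : Derivation k F F, D (a * (x ^ M * (1 + a))) ≠ 0 := by
  have h1a : 1 + a ≠ 0 ∧ w i (1 + a) = 0 := by
    have := h.add_eq_of_lt i one_ne_zero ha0 (by rw [h.one, ha]; exact zero_lt_one)
    rwa [h.one] at this
  have hval : ∀ M : ℕ, w i (a * (x ^ M * (1 + a))) = 1 + M * w i x := fun M => by
    rw [h.mul i _ _ ha0 (mul_ne_zero (pow_ne_zero _ hx0) h1a.1),
      h.mul i _ _ (pow_ne_zero _ hx0) h1a.1, h.pow i hx0, h1a.2, ha, add_zero]
  have hval' : ∀ M : ℕ, w i (x ^ M * (1 + a)) = M * w i x := fun M => by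
    rw [h.mul i _ _ (pow_ne_zero _ hx0) h1a.1, h.pow i hx0, h1a.2, add_zero]
  have hne : ∀ M : ℕ, x ^ M * (1 + a) ≠ 0 := fun M => mul_ne_zero (pow_ne_zero _ hx0) h1a.1
  obtain ⟨p, hp⟩ := CharP.exists k
  rcases CharP.char_is_prime_or_zero k p with hpp | rfl
  · have hpF : CharP F p := charP_of_injective_algebraMap' k p
    refine ⟨p * N, Nat.le_mul_of_pos_left N hpp.pos, ?_, ?_⟩
    · obtain ⟨D, hD⟩ := exists_der h ha0 i (by rw [ha]; simp)
      refine ⟨D, ?_⟩
      rw [D.leibniz, D.leibniz_pow, map_add, D.map_one_eq_zero, zero_add]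
      have : (p * N) • (x ^ (p * N - 1) • D x) = 0 := by
        rw [mul_comm p N, mul_smul, ← Nat.cast_smul_eq_nsmul F p, CharP.cast_eq_zero, zero_smul,
          smul_zero]
      rw [this, smul_zero, add_zero, smul_eq_mul]
      exact mul_ne_zero (pow_ne_zero _ hx0) hD
    · apply exists_der h (mul_ne_zero ha0 (hne _)) i
      rw [hval]
      push_cast
      rw [CharP.cast_eq_zero, zero_mul, zero_mul, add_zero]
      exact one_ne_zero
  · have : CharZero k := CharP.charP_to_charZero k
    refine ⟨N + 2, Nat.le_add_right _ _, ?_, ?_⟩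
    · apply exists_der h (hne _) i
      rw [hval', Int.cast_ne_zero]
      have : (0 : ℤ) < ((N + 2 : ℕ) : ℤ) := by positivity
      nlinarith
    · apply exists_der h (mul_ne_zero ha0 (hne _)) i
      rw [hval, Int.cast_ne_zero]
      push_cast
      nlinarith

/-- a function with value one at a given place, value zero at finitely many given places, and simple zeros
and poles elsewhere -/
theorem exists_simple (h : Fam k F w) (i : I) (T : Set I) (hT : T.Finite) (hi : i ∉ T) :
    ∃ ψ : F, ψ ≠ 0 ∧ w i ψ = 1 ∧ (∀ j ∈ T, w j ψ = 0) ∧ ∀ j, |w j ψ| ≤ 1 := by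
  obtain ⟨a, ha0, ha⟩ := h.unif i
  have h1a : 1 + a ≠ 0 ∧ w i (1 + a) = 0 := by
    have := h.add_eq_of_lt i one_ne_zero ha0 (by rw [h.one, ha]; exact zero_lt_one)
    rwa [h.one] at this
  set T' : Set I := (T ∪ {j | w j a ≠ 0} ∪ {j | w j (1 + a) ≠ 0}) \ {i} with hT'
  have hT'fin : T'.Finite := ((hT.union (h.fin a ha0)).union (h.fin _ h1a.1)).sdiff
  have hiT' : i ∉ T' := fun h' => h'.2 rfl
  obtain ⟨x, hx0, hxi, hxj⟩ := h.exists_approx i T' hT'fin hiT'
  -- a bound
  obtain ⟨N, hN⟩ : ∃ N : ℕ, ∀ j ∈ T', |w j a| + |w j (1 + a)| ≤ N := by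
    obtain ⟨B, hB⟩ := (hT'fin.image fun j => |w j a| + |w j (1 + a)|).bddAbove
    refine ⟨B.toNat, fun j hj => ?_⟩
    have h1 : |w j a| + |w j (1 + a)| ≤ B := hB ⟨j, hj, rfl⟩
    exact h1.trans (Int.self_le_toNat B)
  obtain ⟨M, hM, ⟨D, hD⟩, ⟨D', hD'⟩⟩ := exists_pow h i ha0 ha hx0 hxi (N + 2)
  set e := x ^ M * (1 + a) with he
  have he0 : e ≠ 0 := mul_ne_zero (pow_ne_zero _ hx0) h1a.1
  have hwe : ∀ j, w j e = M * w j x + w j (1 + a) := fun j => by
    rw [he, h.mul j _ _ (pow_ne_zero _ hx0) h1a.1, h.pow j hx0]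
  have hg0 : a * e ≠ 0 := mul_ne_zero ha0 he0
  have hwg : ∀ j, w j (a * e) = w j a + w j e := fun j => h.mul j _ _ ha0 he0
  have hMN : (N : ℤ) + 2 ≤ M := by exact_mod_cast hM
  have hwei : w i e ≤ -2 := by
    rw [hwe, h1a.2]
    nlinarith
  have hweT : ∀ j ∈ T', 0 ≤ w j e ∧ 0 ≤ w j (a * e) := by
    intro j hj
    have h1 := hxj j hj
    have h2 := hN j hj
    have h3 : (M : ℤ) ≤ M * w j x := by nlinarith
    have h4 := neg_abs_le (w j a)
    have h5 := neg_abs_le (w j (1 + a))
    have h6 := abs_nonneg (w j a)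
    have h7 := abs_nonneg (w j (1 + a))
    rw [hwg, hwe]
    constructor <;> omega
  have hweE : ∀ j, j ≠ i → j ∉ T' → w j (a * e) = w j e ∧ w j a = 0 := by
    intro j hji hj
    have : w j a = 0 := by
      by_contra h'
      exact hj ⟨Or.inl (Or.inr h'), hji⟩
    rw [hwg, this, zero_add]
    exact ⟨rfl, rfl⟩
  -- choose the constants
  have hinf : Infinite k := inferInstance
  obtain ⟨c, hc⟩ := (h.finite_bad D' hD' T' hT'fin).infinite_compl.nonempty
  obtain ⟨c', hc'⟩ := (h.finite_bad D hD T' hT'fin).infinite_compl.nonempty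
  have hc1 : ∀ j, 0 < w j (a * e + algebraMap k F c) → j ∉ T' ∧ w j (a * e + algebraMap k F c) = 1 := by
    intro j hj
    constructor
    · intro h'
      exact hc ⟨j, hj, Or.inl h'⟩
    · by_contra h'
      exact hc ⟨j, hj, Or.inr (by omega)⟩
  have hc1' : ∀ j, 0 < w j (e + algebraMap k F c') → j ∉ T' ∧ w j (e + algebraMap k F c') = 1 := by
    intro j hj
    constructor
    · intro h'
      exact hc' ⟨j, hj, Or.inl h'⟩
    · by_contra h'
      exact hc' ⟨j, hj, Or.inr (by omega)⟩
  have hgc0 : a * e + algebraMap k F c ≠ 0 := by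
    intro h'
    apply hD'
    have := congrArg D' h'
    rwa [map_add, D'.map_algebraMap, add_zero, map_zero] at this
  have hec0 : e + algebraMap k F c' ≠ 0 := by
    intro h'
    apply hD
    have := congrArg D h'
    rwa [map_add, D.map_algebraMap, add_zero, map_zero] at this
  -- values of `b + c`
  have hreg : ∀ (b : F) (c : k) (j : I), b ≠ 0 → 0 ≤ w j b → b + algebraMap k F c ≠ 0 →
      0 ≤ w j (b + algebraMap k F c) := by
    intro b c j hb0 hb hbc
    by_cases hc0 : c = 0
    · rw [hc0, map_zero, add_zero]; exact hb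
    · have := h.add j b (algebraMap k F c) hb0 ((map_ne_zero _).mpr hc0) hbc
      rw [h.const j c hc0] at this
      omega
  have hwi : w i ((a * e + algebraMap k F c) / (e + algebraMap k F c')) = 1 := by
    rw [h.div i hgc0 hec0, h.add_const i hg0 (by rw [hwg, ha]; omega),
      h.add_const i he0 (by omega), hwg, ha]
    omega
  have hwT' : ∀ j ∈ T', w j ((a * e + algebraMap k F c) / (e + algebraMap k F c')) = 0 := by
    intro j hj
    rw [h.div j hgc0 hec0]
    have h1 := hreg _ c j hg0 (hweT j hj).2 hgc0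
    have h2 := hreg _ c' j he0 (hweT j hj).1 hec0
    have h3 : ¬ 0 < w j (a * e + algebraMap k F c) := fun h' => (hc1 j h').1 hj
    have h4 : ¬ 0 < w j (e + algebraMap k F c') := fun h' => (hc1' j h').1 hj
    omega
  refine ⟨(a * e + algebraMap k F c) / (e + algebraMap k F c'), div_ne_zero hgc0 hec0, hwi, ?_, ?_⟩
  · intro j hj
    exact hwT' j ⟨Or.inl (Or.inl hj), fun h' => hi (h' ▸ hj)⟩
  · intro j
    by_cases hji : j = i
    · rw [hji, hwi]; norm_num
    by_cases hjT : j ∈ T'
    · rw [hwT' j hjT]; norm_num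
    obtain ⟨h1, h2⟩ := hweE j hji hjT
    rw [h.div j hgc0 hec0]
    by_cases hneg : w j e < 0
    · rw [h.add_const j hg0 (by rw [h1]; exact hneg), h.add_const j he0 hneg, h1, sub_self]
      norm_num
    · have h3 := hreg _ c j hg0 (by rw [h1]; omega) hgc0
      have h4 := hreg _ c' j he0 (by omega) hec0
      have h5 : w j (a * e + algebraMap k F c) ≤ 1 := by
        by_contra h'
        have := (hc1 j (by omega)).2
        omega
      have h6 : w j (e + algebraMap k F c') ≤ 1 := by
        by_contra h'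
        have := (hc1' j (by omega)).2
        omega
      rw [abs_le]
      constructor <;> omega

/-- **every nonzero function is a product of functions with simple zeros and poles and inverses of such** -/
theorem induction_simple (h : Fam k F w) {P : F → Prop}
    (simple : ∀ a, a ≠ 0 → (∀ i, |w i a| ≤ 1) → P a)
    (mul : ∀ a b, a ≠ 0 → b ≠ 0 → P a → P b → P (a * b))
    (inv : ∀ a, a ≠ 0 → P a → P a⁻¹) (a : F) (ha : a ≠ 0) : P a := by
  classical
  -- induction on the excess
  suffices H : ∀ n : ℕ, ∀ a : F, ∀ ha : a ≠ 0,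
      ∑ i ∈ (h.fin a ha).toFinset, ((w i a).natAbs - 1) = n → P a from H _ a ha rfl
  intro n
  induction n with
  | zero =>
    intro a ha hn
    apply simple a ha
    intro i
    by_cases hi : w i a = 0
    · rw [hi]; norm_num
    · rw [Finset.sum_eq_zero_iff] at hn
      have := hn i (by simpa using hi)
      rw [Int.abs_eq_natAbs]
      omega
  | succ n ih =>
    intro a ha hn
    obtain ⟨i, hi, hi2⟩ : ∃ i ∈ (h.fin a ha).toFinset, (w i a).natAbs - 1 ≠ 0 := by
      by_contra h'
      push Not at h'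
      rw [Finset.sum_eq_zero h'] at hn
      omega
    have hw2 : 2 ≤ (w i a).natAbs := by omega
    obtain ⟨ψ, hψ0, hψi, hψT, hψ⟩ := exists_simple h i ({j | w j a ≠ 0} \ {i})
      (h.fin a ha).sdiff (fun h' => h'.2 rfl)
    have hPψ : P ψ := simple ψ hψ0 hψ
    -- the excess of `b` if `w j b = w j a` for `j ≠ i` in the support and `|w i b| = |w i a| - 1`
    have key : ∀ (b : F) (hb : b ≠ 0), (w i b).natAbs = (w i a).natAbs - 1 →
        (∀ j, j ≠ i → w j a ≠ 0 → w j b = w j a) → (∀ j, j ≠ i → w j a = 0 → |w j b| ≤ 1) → P b := by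
      intro b hb hbi hbj hbe
      apply ih b hb
      set S := (h.fin a ha).toFinset with hS
      set S' := (h.fin b hb).toFinset with hS'
      have h1 : ∑ j ∈ S', ((w j b).natAbs - 1) = ∑ j ∈ S ∪ S', ((w j b).natAbs - 1) := by
        apply Finset.sum_subset Finset.subset_union_right
        intro j _ hj
        have : w j b = 0 := by
          by_contra h'
          exact hj (by rw [hS']; simpa using h')
        rw [this]
        rfl
      have h2 : ∑ j ∈ S, ((w j a).natAbs - 1) = ∑ j ∈ S ∪ S', ((w j a).natAbs - 1) := by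
        apply Finset.sum_subset Finset.subset_union_left
        intro j _ hj
        have : w j a = 0 := by
          by_contra h'
          exact hj (by rw [hS]; simpa using h')
        rw [this]
        rfl
      have hiS : i ∈ S ∪ S' := Finset.mem_union_left _ hi
      rw [h1, ← Finset.add_sum_erase _ _ hiS]
      rw [h2, ← Finset.add_sum_erase _ _ hiS] at hn
      have h3 : ∑ j ∈ (S ∪ S').erase i, ((w j b).natAbs - 1) =
          ∑ j ∈ (S ∪ S').erase i, ((w j a).natAbs - 1) := by
        apply Finset.sum_congr rfl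
        intro j hj
        have hji := Finset.ne_of_mem_erase hj
        by_cases hja : w j a = 0
        · have := hbe j hji hja
          rw [Int.abs_eq_natAbs] at this
          rw [hja]
          omega
        · rw [hbj j hji hja]
      rw [h3]
      omega
    rcases lt_or_gt_of_ne (show w i a ≠ 0 by omega) with hneg | hpos
    · have h1 : P (a * ψ) := by
        refine key (a * ψ) (mul_ne_zero ha hψ0) ?_ ?_ ?_
        · rw [h.mul i a ψ ha hψ0, hψi]; omega
        · intro j hji hja
          rw [h.mul j a ψ ha hψ0, hψT j ⟨hja, hji⟩, add_zero]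
        · intro j hji hja
          rw [h.mul j a ψ ha hψ0, hja, zero_add]
          exact hψ j
      have h2 := mul _ _ (mul_ne_zero ha hψ0) (inv_ne_zero hψ0) h1 (inv ψ hψ0 hPψ)
      rwa [mul_inv_cancel_right₀ hψ0] at h2
    · have h1 : P (a / ψ) := by
        refine key (a / ψ) (div_ne_zero ha hψ0) ?_ ?_ ?_
        · rw [h.div i ha hψ0, hψi]; omega
        · intro j hji hja
          rw [h.div j ha hψ0, hψT j ⟨hja, hji⟩, sub_zero]
        · intro j hji hja
          rw [h.div j ha hψ0, hja, zero_sub, abs_neg]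
          exact hψ j
      have h2 := mul _ _ (div_ne_zero ha hψ0) hψ0 h1 hPψ
      rwa [div_mul_cancel₀ _ hψ0] at h2

end Der

end K923.Simple
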